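import Cfsg.Agent.Lib.KnownA.E6Cubic.Root

/-!
The stabiliser chain: an isometry of the cubic form is brought to diagonal shape by root elements.
-/

set_option autoImplicit false
set_option maxRecDepth 20000

namespace CfsgLib.KnownA.E6Cubic

open Matrix CfsgLib.Chevalley
open Cfsg.Lie (I27)

/-- A list with the single term `±x`. -/
def isOne (L : List (ℤ × ℕ)) (x : ℕ) : Bool :=
  match L with
  | [(σ, y)] => Nat.beq y x && decide (σ = 1 ∨ σ = -1)
  | _ => false

/-- A root fixing the given lines. -/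
def fixR (S : List ℕ) (r : ℕ) : Bool := Nat.blt r 72 && (ent r).all fun d => !(S.elem d.2.2.1)

/-- The lines collinear to `a`. -/
def colC (a : ℕ) : List ℕ := (List.range 27).filter fun x => !(Nat.beq x a) && (dlist a x).isEmpty

def chkZ (S : List ℕ) (a : ℕ) (p : ℕ × ℕ × ℕ) : Bool :=
  Nat.blt p.2.2 27 && S.elem p.2.1 && !(Nat.beq p.1 a) && isOne (dlist p.2.1 p.2.2) p.1 &&
    ((dlist p.2.1 a).isEmpty || S.elem p.2.2)

def chkPath (S : List ℕ) : List ℕ → List (ℕ × ℕ × ℕ) → Bool
  | _, [] => true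
  | acc, p :: rest => fixR S p.2.1 && acc.elem p.2.2 && Nat.blt p.2.2 27 && isOne (rowL p.2.1 p.2.2) p.1 &&
      chkPath S (p.1 :: acc) rest

def chkClr (S : List ℕ) (a : ℕ) (p : ℕ × ℕ) : Bool :=
  fixR S p.2 && Nat.blt p.1 27 && isOne (rowL p.2 p.1) a && !(Nat.beq p.1 a) &&
    (a :: colC a).all fun y => Nat.beq y p.1 || (rowL p.2 y).isEmpty

def chkWhite (a : ℕ) (p : ℕ × ℕ) : Bool :=
  Nat.blt p.2 27 && !((colC a).elem p.1) &&
    match (qlist p.2).filter fun q => !((colC a).elem q.2.1 || (colC a).elem q.2.2) with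
    | [(σ, y, z)] => ((Nat.beq y a && Nat.beq z p.1) || (Nat.beq y p.1 && Nat.beq z a)) && decide (σ = 1 ∨ σ = -1)
    | _ => false

/-- The coordinates neither forced to vanish nor connected to the pivot. -/
def rest (st : Step) : List ℕ :=
  (List.range 27).filter fun x => !(Nat.beq x st.a) && !((st.z.map Prod.fst).elem x) && !((st.path.map Prod.fst).elem x)

/-- A list with a single term with coefficient `±1`. -/
def isUnit (L : List (ℤ × ℕ)) : Bool :=
  match L with
  | [(σ, y)] => Nat.blt y 27 && decide (σ = 1 ∨ σ = -1)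
  | _ => false

def chkExcl (S : List ℕ) (st : Step) : Bool :=
  match st.kind, st.ex with
  | 0, _ => (rest st).all fun x => S.elem x
  | 1, [s] => S.elem s && isUnit (dlist s st.a) &&
      (qlist s).all fun q => !((rest st).elem q.2.1) && !((rest st).elem q.2.2)
  | 2, A => match rest st with
    | [x] => A.all (fun s => S.elem s && (dlist s st.ez).isEmpty) && (dlist st.a st.ez).isEmpty &&
        Nat.blt st.ez 27 && !(Nat.beq st.ez st.a) && !(S.elem st.ez) &&
        allLt (fun v => S.elem v || Nat.beq v x ||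
          (x :: A).any fun s => (List.range 27).any fun b => isOne (dlist s b) v) 27
    | _ => false
  | _, _ => false

/-- A step of the chain. -/
def chkStep (S : List ℕ) (st : Step) : Bool :=
  Nat.blt st.a 27 && !(S.elem st.a) && st.z.all (chkZ S st.a) && chkPath S [st.a] st.path &&
    st.clr.all (chkClr S st.a) && st.white.all (chkWhite st.a) && chkExcl S st &&
    allLt (fun x => Nat.beq x st.a ||
      ((colC st.a).elem x && ((st.z.map Prod.fst).elem x || (st.clr.map Prod.fst).elem x)) ||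
      (st.white.map Prod.fst).elem x) 27

/-- The whole chain. -/
def chkChain : List ℕ → List Step → Bool
  | S, [] => allLt (fun n => S.elem n) 27
  | S, st :: l => chkStep S st && chkChain (st.a :: S) l

theorem chain_ok : chkChain [] steps = true := by decide +kernel

variable {F : Type*} [Field F]

theorem lval_isOne {L : List (ℤ × ℕ)} {x : ℕ} (h : isOne L x = true) :
    ∃ σ : F, σ * σ = 1 ∧ ∀ v : I27 → F, lval L v = σ * co v x := by
  unfold isOne at h
  split at h
  · rename_i σ y
    simp only [Bool.and_eq_true, Nat.beq_eq, decide_eq_true_eq] at h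
    obtain ⟨rfl, hσ⟩ := h
    exact ⟨σ, by rcases hσ with rfl | rfl <;> simp, fun v => by simp [lval]⟩
  · simp at h

theorem lval_isEmpty {L : List (ℤ × ℕ)} (h : L.isEmpty = true) (v : I27 → F) : lval L v = 0 := by
  rw [List.isEmpty_iff.mp h]; rfl

theorem lval_eq_zero {L : List (ℤ × ℕ)} {v : I27 → F} (h : ∀ p ∈ L, co v p.2 = 0) : lval L v = 0 :=
  List.sum_eq_zero fun y hy => by
    obtain ⟨p, hp, rfl⟩ := List.mem_map.mp hy
    rw [h p hp, mul_zero]

/-- The lines of `S` are fixed. -/
def Fix (h : GL I27 F) (S : List ℕ) : Prop :=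
  h ∈ Cfsg.Lie.E6univ F ∧ ∀ s ∈ S, s < 27 ∧ ∃ c : F, c ≠ 0 ∧ act h (bas F s) = c • bas F s

theorem fixR_bas {S : List ℕ} {r : ℕ} (h : fixR S r = true) (t : F) {s : ℕ} (hs : s ∈ S) (hs' : s < 27) :
    act (xG r t) (bas F s) = bas F s := by
  simp only [fixR, Bool.and_eq_true, Nat.blt_eq, List.all_eq_true] at h
  refine co_ext fun n hn => ?_
  rw [co_root h.1 t _ hn, lval_eq_zero (fun p hp => ?_), mul_zero, add_zero]
  simp only [rowL, List.mem_flatMap] at hp
  obtain ⟨d, hd, hp⟩ := hp
  have hne : d.2.2.1 ≠ s := fun e => by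
    have := h.2 d hd
    simp [e, hs] at this
  cases hb : Nat.beq d.2.1 n <;> simp [hb] at hp
  rw [hp, co_bas hs', if_neg hne]

theorem Fix.move {h : GL I27 F} {S : List ℕ} (hh : Fix h S) {r : ℕ} (hr : fixR S r = true) (t : F) :
    Fix (xG r t * h) S := by
  have hr' : r < 72 := by simp [fixR] at hr; exact hr.1
  refine ⟨mul_mem (xG_mem hr' t) hh.1, fun s hs => ?_⟩
  obtain ⟨hs', c, hc, e⟩ := hh.2 s hs
  exact ⟨hs', c, hc, by rw [act_mul, e, act_smul, fixR_bas hr t hs hs']⟩

theorem Fix.inv_bas {h : GL I27 F} {S : List ℕ} (hh : Fix h S) {s : ℕ} (hs : s ∈ S) :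
    ∃ c : F, act h⁻¹ (bas F s) = c • bas F s := by
  obtain ⟨-, c, hc, e⟩ := hh.2 s hs
  refine ⟨c⁻¹, ?_⟩
  have h1 := act_act_inv h (bas F s)
  rw [e, act_smul] at h1
  conv_rhs => rw [← h1]
  rw [smul_smul, inv_mul_cancel₀ hc, one_smul]

theorem mem_range_xG {r : ℕ} (hr : r < 72) (t : F) : xG r t ∈ (hom (F := F)).range := ⟨_, hom_sX hr t⟩

variable (hF : ∃ c : F, c ≠ 0 ∧ c ≠ 1) {S : List ℕ} {a : ℕ} (ha : a < 27)
include hF ha

theorem forced_zero {p : ℕ × ℕ × ℕ} (hp : chkZ S a p = true) {h : GL I27 F} (hh : Fix h S) :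
    co (act h (bas F a)) p.1 = 0 := by
  obtain ⟨x, s, b⟩ := p
  simp only [chkZ, Bool.and_eq_true, Bool.or_eq_true, Nat.blt_eq, List.elem_iff, Bool.not_eq_true'] at hp
  obtain ⟨⟨⟨⟨hb, hs⟩, hxa⟩, hone⟩, hcase⟩ := hp
  obtain ⟨hs', c, hc, e⟩ := hh.2 s hs
  obtain ⟨σ, hσ, hv⟩ := lval_isOne (F := F) hone
  have hxa' : x ≠ a := fun e => by simp [e] at hxa
  set w := act h (bas F a)
  have key : DD tri (bas F s) w (bas F b) = 0 := by
    rcases hcase with h1 | h1
    · have := DD_inv hF hh.1 (bas F s) (bas F a) (act h⁻¹ (bas F b))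
      rw [e, act_inv_act, DD_smul₁, DD_bas₂ hs' ha, lval_isEmpty h1] at this
      exact (mul_eq_zero.mp this).resolve_left hc
    · obtain ⟨-, c', hc', e'⟩ := hh.2 b h1
      have := DD_inv hF hh.1 (bas F s) (bas F a) (bas F b)
      rw [e, e', DD_smul₁, DD_smul₃, DD_comm tri (bas F s) (bas F a), DD_bas₂ hs' hb, hv, co_bas ha,
        if_neg hxa', mul_zero] at this
      exact (mul_eq_zero.mp ((mul_eq_zero.mp this).resolve_left hc)).resolve_left hc'
  rw [DD_comm, DD_bas₂ hs' hb, hv] at key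
  exact (mul_eq_zero.mp key).resolve_left fun e => by simp [e] at hσ

omit hF ha in
theorem reach (S : List ℕ) (a : ℕ) : ∀ (l : List (ℕ × ℕ × ℕ)) (acc : List ℕ), chkPath S acc l = true →
    (∀ h : GL I27 F, Fix h S → (∃ x ∈ acc, co (act h (bas F a)) x ≠ 0) →
      ∃ u ∈ (hom (F := F)).range, Fix (u * h) S ∧ co (act (u * h) (bas F a)) a ≠ 0) →
    ∀ h : GL I27 F, Fix h S → (∃ x, (x ∈ acc ∨ x ∈ l.map Prod.fst) ∧ co (act h (bas F a)) x ≠ 0) →
      ∃ u ∈ (hom (F := F)).range, Fix (u * h) S ∧ co (act (u * h) (bas F a)) a ≠ 0 := by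
  intro l
  induction l with
  | nil =>
    intro acc _ hP h hh ⟨x, hx, hne⟩
    exact hP h hh ⟨x, by simpa using hx, hne⟩
  | cons p l ih =>
    intro acc hc hP h hh ⟨x, hx, hne⟩
    obtain ⟨z, r, y⟩ := p
    simp only [chkPath, Bool.and_eq_true, Nat.blt_eq, List.elem_iff] at hc
    obtain ⟨⟨⟨⟨hr, hy⟩, hy'⟩, hone⟩, hl⟩ := hc
    refine ih (z :: acc) hl ?_ h hh ⟨x, by simpa [or_assoc, or_left_comm] using hx, hne⟩
    rintro h hh ⟨x, hx, hne⟩
    rcases List.mem_cons.mp hx with rfl | hx
    swap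
    · exact hP h hh ⟨x, hx, hne⟩
    by_cases hy0 : co (act h (bas F a)) y = 0
    swap
    · exact hP h hh ⟨y, hy, hy0⟩
    have hr' : r < 72 := by simp [fixR] at hr; exact hr.1
    obtain ⟨σ, hσ, hv⟩ := lval_isOne (F := F) hone
    obtain ⟨u, hu, h1, h2⟩ := hP (xG r 1 * h) (hh.move hr 1) ⟨y, hy, by
      rw [act_mul, co_root hr' 1 _ hy', hy0, zero_add, one_mul, hv]
      exact mul_ne_zero (fun e => by simp [e] at hσ) hne⟩
    exact ⟨u * xG r 1, mul_mem hu (mem_range_xG hr' 1), by rwa [mul_assoc], by rwa [mul_assoc]⟩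

theorem excluded {st : Step} (hst : st.a = a) (hk : chkExcl S st = true) (hS : a ∉ S) {h : GL I27 F} (hh : Fix h S)
    (hsupp : ∀ x < 27, co (act h (bas F a)) x ≠ 0 → x ∈ rest st) : False := by
  set w := act h (bas F a) with hw
  have hinv : act h⁻¹ w = bas F a := act_act_inv h _
  unfold chkExcl at hk
  split at hk
  · simp only [List.all_eq_true, List.elem_iff] at hk
    have h1 := congrArg (fun v => co v a) hinv
    simp only [co_act_sum h⁻¹ w, co_bas ha, if_pos] at h1
    refine one_ne_zero (h1.symm.trans (Finset.sum_eq_zero fun i hi => ?_))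
    by_cases h0 : co w i = 0
    · rw [h0, zero_mul]
    have his := hk i (hsupp i (Finset.mem_range.mp hi) h0)
    obtain ⟨c, hc⟩ := hh.inv_bas his
    rw [hc, co_smul, co_bas (Finset.mem_range.mp hi), if_neg (fun e => hS (by subst e; exact his)), mul_zero, mul_zero]
  · rename_i s _ _
    simp only [Bool.and_eq_true, List.elem_iff, List.all_eq_true, Bool.not_eq_true'] at hk
    obtain ⟨⟨hs, hu⟩, hq⟩ := hk
    obtain ⟨hs', c, hc, e⟩ := hh.2 s hs
    unfold isUnit at hu
    split at hu
    swap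
    · simp at hu
    rename_i σ y hd
    simp only [Bool.and_eq_true, Nat.blt_eq, decide_eq_true_eq] at hu
    have := DD_inv hF hh.1 (bas F s) (bas F a) (bas F y)
    rw [e, DD_smul₁, DD_bas hs', ← hst, DD_bas₂ hs' (hst ▸ ha), hd] at this
    have hz : qpol (qlist s) (act h (bas F st.a)) (act h (bas F y)) = 0 := by
      refine List.sum_eq_zero fun z hz => ?_
      obtain ⟨q, hq', rfl⟩ := List.mem_map.mp hz
      obtain ⟨n1, n2⟩ := hq q hq'
      have key : ∀ n, (rest st).elem n = false → co w n = 0 := fun n hn => by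
        by_cases hn' : n < 27
        · by_contra h0
          exact Bool.noConfusion (hn.symm.trans (List.elem_iff.mpr (hsupp n hn' h0)))
        · simp [co, hn']
      rw [hst, ← hw, key _ n1, key _ n2]
      simp
    rw [hz, mul_zero] at this
    simp only [lval, List.map_cons, List.map_nil, List.sum_cons, List.sum_nil, co_bas hu.1, if_pos, mul_one,
      add_zero] at this
    rcases hu.2 with rfl | rfl <;> simp at this
  · rename_i A _
    split at hk
    swap
    · simp at hk
    rename_i x hx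
    simp only [Bool.and_eq_true, List.elem_iff, List.all_eq_true, Nat.blt_eq, Bool.not_eq_true'] at hk
    obtain ⟨⟨⟨⟨⟨hA, hza⟩, hz27⟩, hzne⟩, hzS⟩, hcom⟩ := hk
    have hzne' : st.ez ≠ a := fun e => by simp [e, hst] at hzne
    have hzS' : st.ez ∉ S := fun e => by simp [e] at hzS
    rw [hst] at hza
    by_cases hx27 : x < 27
    swap
    · have h1 := congrArg (fun v => co v a) hinv
      simp only [co_act_sum h⁻¹ w, co_bas ha, if_pos] at h1
      refine one_ne_zero (h1.symm.trans (Finset.sum_eq_zero fun i hi => ?_))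
      by_cases h0 : co w i = 0
      · rw [h0, zero_mul]
      have := hsupp i (Finset.mem_range.mp hi) h0
      rw [hx, List.mem_singleton] at this
      exact absurd (this ▸ Finset.mem_range.mp hi) hx27
    have hwx : w = co w x • bas F x := co_ext fun n hn => by
      rw [co_smul, co_bas hx27]
      by_cases h0 : n = x
      · rw [if_pos h0, h0, mul_one]
      · rw [if_neg h0, mul_zero]
        by_contra h1
        have := hsupp n hn h1
        rw [hx, List.mem_singleton] at this
        exact h0 this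
    set c := co w x
    have hc : c ≠ 0 := fun e => by
      have h1 := congrArg (fun v => co v a) hinv
      rw [hwx, e, zero_smul] at h1
      simp [act, co_bas ha, co_zero] at h1
    set v := act h (bas F st.ez)
    have hv : ∀ n < 27, n ∉ S → n ≠ x → co v n = 0 := by
      intro n hn hnS hnx
      have hcn := allLt_iff.mp hcom n hn
      simp only [Bool.or_eq_true, List.elem_iff, hnS, Nat.beq_eq, hnx, false_or, List.any_eq_true, List.mem_range] at hcn
      obtain ⟨s, hs, b, hb, hone⟩ := hcn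
      obtain ⟨σ, hσ, hlv⟩ := lval_isOne (F := F) hone
      have hz : DD tri (bas F s) v (bas F b) = 0 ∧ s < 27 := by
        rcases List.mem_cons.mp hs with rfl | hs
        · refine ⟨?_, hx27⟩
          have := DD_inv hF hh.1 (bas F a) (bas F st.ez) (act h⁻¹ (bas F b))
          rw [← hw, hwx, act_inv_act, DD_smul₁, DD_bas₂ ha hz27, lval_isEmpty hza] at this
          exact (mul_eq_zero.mp this).resolve_left hc
        · obtain ⟨hsS, hd⟩ := hA s hs
          obtain ⟨hs', c', hc', e⟩ := hh.2 s hsS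
          refine ⟨?_, hs'⟩
          have := DD_inv hF hh.1 (bas F s) (bas F st.ez) (act h⁻¹ (bas F b))
          rw [e, act_inv_act, DD_smul₁, DD_bas₂ hs' hz27, lval_isEmpty hd] at this
          exact (mul_eq_zero.mp this).resolve_left hc'
      have h1 := hz.1
      rw [DD_comm, DD_bas₂ hz.2 hb, hlv] at h1
      exact (mul_eq_zero.mp h1).resolve_left fun e => by simp [e] at hσ
    have h1 := congrArg (fun u => co u st.ez) (act_act_inv h (bas F st.ez))
    change co (act h⁻¹ v) st.ez = co (bas F st.ez) st.ez at h1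
    rw [co_act_sum, co_bas hz27, if_pos rfl] at h1
    refine one_ne_zero (h1.symm.trans (Finset.sum_eq_zero fun i hi => ?_))
    have hi' := Finset.mem_range.mp hi
    by_cases hiS : i ∈ S
    · obtain ⟨c', hc'⟩ := hh.inv_bas hiS
      rw [hc', co_smul, co_bas hi', if_neg (fun (e : st.ez = i) => hzS' (e ▸ hiS)), mul_zero, mul_zero]
    by_cases hix : i = x
    · subst hix
      have h2 : act h⁻¹ (bas F i) = c⁻¹ • bas F a := by
        rw [← hinv, hwx, act_smul, smul_smul, inv_mul_cancel₀ hc, one_smul]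
      rw [h2, co_smul, co_bas ha, if_neg hzne', mul_zero, mul_zero]
    · rw [hv i hi' hiS hix, zero_mul]
  · simp at hk

omit ha in
theorem clear (hS : a ∉ S) (ha : a < 27) : ∀ (l : List (ℕ × ℕ)), (l.all (chkClr S a)) = true → ∀ h : GL I27 F, Fix h S →
    co (act h (bas F a)) a ≠ 0 → ∃ u ∈ (hom (F := F)).range, Fix (u * h) S ∧
      co (act (u * h) (bas F a)) a ≠ 0 ∧ ∀ y ∈ colC a,
        (y ∈ l.map Prod.fst → co (act (u * h) (bas F a)) y = 0) ∧
        (co (act h (bas F a)) y = 0 → co (act (u * h) (bas F a)) y = 0) := by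
  intro l
  induction l with
  | nil => intro _ h hh hne; exact ⟨1, one_mem _, by rwa [one_mul], by rwa [one_mul], fun y _ => by simp⟩
  | cons p l ih =>
    intro hc h hh hne
    obtain ⟨x, r⟩ := p
    rw [List.all_cons, Bool.and_eq_true] at hc
    obtain ⟨hp, hl⟩ := hc
    simp only [chkClr, Bool.and_eq_true, Bool.or_eq_true, Nat.blt_eq, List.all_eq_true, Nat.beq_eq,
      Bool.not_eq_true'] at hp
    obtain ⟨⟨⟨⟨hr, hx⟩, hone⟩, hxa⟩, hoth⟩ := hp
    have hr' : r < 72 := by simp [fixR] at hr; exact hr.1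
    obtain ⟨σ, hσ, hv⟩ := lval_isOne (F := F) hone
    set w := act h (bas F a) with hw
    set t := -(σ * co w x) / co w a with ht
    have hnew : co (act (xG r t * h) (bas F a)) x = 0 := by
      rw [act_mul, co_root hr' t _ hx, ← hw, hv, ht]
      field_simp
      linear_combination (-(co w x)) * hσ
    have hfix : ∀ y ∈ a :: colC a, y ≠ x → co (act (xG r t * h) (bas F a)) y = co w y := by
      intro y hy hyx
      have hy27 : y < 27 := by
        rcases List.mem_cons.mp hy with rfl | hy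
        · exact ha
        · exact List.mem_range.mp (List.mem_filter.mp hy).1
      rw [act_mul, co_root hr' t _ hy27, lval_isEmpty ((hoth y hy).resolve_left hyx), mul_zero, add_zero]
    have hxa' : a ≠ x := fun e => by simp [e] at hxa
    obtain ⟨u, hu, h1, h2, h3⟩ := ih hl (xG r t * h) (hh.move hr t) (by
      rw [hfix a (List.mem_cons_self ..) hxa']; exact hne)
    refine ⟨u * xG r t, mul_mem hu (mem_range_xG hr' t), by rwa [mul_assoc], by rwa [mul_assoc], fun y hy => ?_⟩
    rw [mul_assoc]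
    obtain ⟨h4, h5⟩ := h3 y hy
    by_cases hyx : y = x
    · subst hyx
      exact ⟨fun _ => h5 hnew, fun _ => h5 hnew⟩
    refine ⟨fun hm => h4 ?_, fun h0 => h5 ?_⟩
    · simpa [hyx] using hm
    · rw [hfix y (List.mem_cons_of_mem _ hy) hyx]; exact h0

theorem quadric {p : ℕ × ℕ} (hp : chkWhite a p = true) {h : GL I27 F} (hh : Fix h S)
    (hC : ∀ y ∈ colC a, co (act h (bas F a)) y = 0) (hne : co (act h (bas F a)) a ≠ 0) :
    co (act h (bas F a)) p.1 = 0 := by
  obtain ⟨x, b⟩ := p
  simp only [chkWhite, Bool.and_eq_true, Nat.blt_eq, Bool.not_eq_true'] at hp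
  obtain ⟨⟨hb, -⟩, hp⟩ := hp
  set w := act h (bas F a)
  have h1 := BB_inv hF hh.1 (bas F a) (act h⁻¹ (bas F b))
  rw [act_inv_act, BB_bas hb, BB_bas_left ha] at h1
  set keep : ℤ × ℕ × ℕ → Bool := fun q => !((colC a).elem q.2.1 || (colC a).elem q.2.2)
  rw [qval, Natural.sum_map_split _ keep] at h1
  have h2 : ((qlist b).filter fun q => !keep q).map (fun q => (q.1 : F) * (co w q.2.1 * co w q.2.2)) =
      ((qlist b).filter fun q => !keep q).map fun _ => (0 : F) := by
    refine List.map_congr_left fun q hq => ?_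
    have := (List.mem_filter.mp hq).2
    simp only [keep, Bool.not_not, Bool.or_eq_true, List.elem_iff] at this
    rcases this with h' | h' <;> simp [hC _ h']
  rw [h2] at h1
  simp only [List.map_const', List.sum_replicate, smul_zero, add_zero] at h1
  split at hp
  swap
  · simp at hp
  rename_i σ y z hf
  rw [show (qlist b).filter keep = [(σ, y, z)] from hf] at h1
  simp only [List.map_cons, List.map_nil, List.sum_cons, List.sum_nil, add_zero] at h1
  simp only [Bool.and_eq_true, Bool.or_eq_true, Nat.beq_eq, decide_eq_true_eq] at hp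
  obtain ⟨hyz, hσ⟩ := hp
  have h3 := (mul_eq_zero.mp h1).resolve_left (by rcases hσ with rfl | rfl <;> simp)
  rcases hyz with ⟨rfl, rfl⟩ | ⟨rfl, rfl⟩
  · exact (mul_eq_zero.mp h3).resolve_left hne
  · exact (mul_eq_zero.mp h3).resolve_right hne

omit ha

theorem step {st : Step} (hst : chkStep S st = true) {h : GL I27 F} (hh : Fix h S) :
    ∃ u ∈ (hom (F := F)).range, Fix (u * h) (st.a :: S) := by
  simp only [chkStep, Bool.and_eq_true, Nat.blt_eq, Bool.not_eq_true'] at hst
  obtain ⟨⟨⟨⟨⟨⟨⟨ha, haS⟩, hz⟩, hpath⟩, hclr⟩, hwh⟩, hexc⟩, hcover⟩ := hst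
  have haS' : st.a ∉ S := fun e => by simp [e] at haS
  have hz0 : ∀ h : GL I27 F, Fix h S → ∀ x ∈ st.z.map Prod.fst, co (act h (bas F st.a)) x = 0 := by
    intro h hh x hx
    obtain ⟨p, hp, rfl⟩ := List.mem_map.mp hx
    exact forced_zero hF ha (List.all_eq_true.mp hz p hp) hh
  obtain ⟨u1, hu1, f1, ne1⟩ := reach S st.a st.path [st.a] hpath
    (fun h hh ⟨x, hx, hne⟩ => ⟨1, one_mem _, by rwa [one_mul], by
      rw [one_mul]; rwa [List.mem_singleton.mp hx] at hne⟩) h hh (by
    by_contra hcon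
    push Not at hcon
    refine excluded hF ha rfl hexc haS' hh fun x hx hne => ?_
    simp only [rest, List.mem_filter, List.mem_range, Bool.and_eq_true, Bool.not_eq_true']
    refine ⟨hx, ⟨?_, ?_⟩, ?_⟩
    · refine Bool.eq_false_iff.mpr fun e => hne (hcon x (Or.inl ?_))
      simpa using e
    · refine Bool.eq_false_iff.mpr fun e => hne (hz0 h hh x (List.elem_iff.mp e))
    · refine Bool.eq_false_iff.mpr fun e => hne (hcon x (Or.inr (List.elem_iff.mp e))))
  obtain ⟨u2, hu2, f2, ne2, hcl⟩ := clear hF haS' ha st.clr hclr (u1 * h) f1 ne1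
  refine ⟨u2 * u1, mul_mem hu2 hu1, ?_⟩
  rw [mul_assoc]
  set h' := u2 * (u1 * h)
  refine ⟨f2.1, fun s hs => ?_⟩
  rcases List.mem_cons.mp hs with rfl | hs
  swap
  · exact f2.2 s hs
  refine ⟨ha, co (act h' (bas F st.a)) st.a, ne2, co_ext fun n hn => ?_⟩
  rw [co_smul, co_bas ha]
  by_cases hna : n = st.a
  · rw [if_pos hna, hna, mul_one]
  rw [if_neg hna, mul_zero]
  have hcov := allLt_iff.mp hcover
  have hC : ∀ y ∈ colC st.a, co (act h' (bas F st.a)) y = 0 := by
    intro y hy
    have hy' := List.mem_range.mp (List.mem_filter.mp hy).1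
    have := hcov y hy'
    have hne : y ≠ st.a := fun e => by
      have := (List.mem_filter.mp hy).2
      simp [e] at this
    simp only [Bool.or_eq_true, Bool.and_eq_true, List.elem_iff, Nat.beq_eq, hne, false_or] at this
    rcases this with ⟨-, h1 | h1⟩ | h1
    · exact hz0 h' f2 y h1
    · exact (hcl y hy).1 h1
    · obtain ⟨p, hp, rfl⟩ := List.mem_map.mp h1
      have := (List.all_eq_true.mp hwh p hp)
      simp only [chkWhite, Bool.and_eq_true, Bool.not_eq_true'] at this
      exact Bool.noConfusion ((this.1.2).symm.trans (List.elem_iff.mpr hy))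
  have := hcov n hn
  simp only [Bool.or_eq_true, Bool.and_eq_true, List.elem_iff, Nat.beq_eq, hna, false_or] at this
  rcases this with ⟨h1, -⟩ | h1
  · exact hC n h1
  · obtain ⟨p, hp, rfl⟩ := List.mem_map.mp h1
    exact quadric hF ha (List.all_eq_true.mp hwh p hp) f2 hC ne2

theorem chain : ∀ (l : List Step) (S : List ℕ), chkChain S l = true → ∀ h : GL I27 F, Fix h S →
    ∃ u ∈ (hom (F := F)).range, ∀ n < 27, ∃ c : F, c ≠ 0 ∧ act (u * h) (bas F n) = c • bas F n := by
  intro l
  induction l with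
  | nil =>
    intro S hS h hh
    refine ⟨1, one_mem _, fun n hn => ?_⟩
    rw [one_mul]
    exact (hh.2 n (List.elem_iff.mp (allLt_iff.mp hS n hn))).2
  | cons st l ih =>
    intro S hS h hh
    simp only [chkChain, Bool.and_eq_true] at hS
    obtain ⟨u, hu, h1⟩ := step hF hS.1 hh
    obtain ⟨u', hu', h2⟩ := ih _ hS.2 _ h1
    exact ⟨u' * u, mul_mem hu' hu, fun n hn => by rw [mul_assoc]; exact h2 n hn⟩

theorem exists_diagonal {g : GL I27 F} (hg : g ∈ Cfsg.Lie.E6univ F) :
    ∃ u ∈ (hom (F := F)).range, ∀ n < 27, ∃ c : F, c ≠ 0 ∧ act (u * g) (bas F n) = c • bas F n :=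
  chain hF steps [] chain_ok g ⟨hg, fun s hs => by simp at hs⟩

end CfsgLib.KnownA.E6Cubic
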