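import Cfsg.Agent.Lib.Chevalley.Natural.NatRep
import Cfsg.Agent.Lib.Chevalley.Data.E6
import Cfsg.Agent.Lib.Chevalley.TablesSt

/-!
The 27-dimensional representation of E₆ on triples of matrices, and the certificates for its generation.
-/

set_option autoImplicit false
set_option maxRecDepth 20000

namespace CfsgLib.KnownA.E6Cubic

open CfsgLib.Chevalley

/-- The entries of the root elements. -/
def ent (r : ℕ) : List (ℕ × ℕ × ℕ × ℤ) :=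
  bif Nat.ble 72 r then [] else
  bif Nat.blt r 36 then
   bif Nat.blt r 18 then
    bif Nat.blt r 9 then
     bif Nat.blt r 4 then
      bif Nat.blt r 2 then
       bif Nat.blt r 1 then
        [(1, 1, 15, 1), (1, 2, 12, -1), (1, 10, 24, 1), (1, 11, 21, -1), (1, 19, 6, 1), (1, 20, 3, -1)]
       else
        [(1, 7, 15, -1), (1, 8, 12, 1), (1, 10, 26, -1), (1, 11, 23, 1), (1, 18, 3, -1), (1, 19, 0, 1)]
      else
       bif Nat.blt r 3 then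
        [(1, 2, 0, -1), (1, 5, 3, -1), (1, 8, 6, -1), (1, 9, 15, 1), (1, 10, 16, 1), (1, 11, 17, 1)]
       else
        [(1, 2, 26, -1), (1, 8, 24, 1), (1, 11, 4, 1), (1, 14, 3, -1), (1, 19, 16, 1), (1, 22, 15, -1)]
     else
      bif Nat.blt r 6 then
       bif Nat.blt r 5 then
        [(1, 2, 23, 1), (1, 8, 21, -1), (1, 10, 4, -1), (1, 13, 3, 1), (1, 19, 17, 1), (1, 25, 15, -1)]
       else
        [(1, 1, 0, 1), (1, 4, 3, 1), (1, 7, 6, 1), (1, 9, 12, -1), (1, 10, 13, -1), (1, 11, 14, -1)]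
      else
       bif Nat.blt r 7 then
        [(1, 1, 26, 1), (1, 7, 24, -1), (1, 11, 5, 1), (1, 17, 3, -1), (1, 19, 13, -1), (1, 22, 12, 1)]
       else
        bif Nat.blt r 8 then
         [(1, 1, 23, -1), (1, 7, 21, 1), (1, 10, 5, -1), (1, 16, 3, 1), (1, 19, 14, -1), (1, 25, 12, 1)]
        else
         [(1, 1, 16, -1), (1, 2, 13, 1), (1, 9, 24, 1), (1, 11, 18, -1), (1, 22, 6, -1), (1, 23, 3, 1)]
    else
     bif Nat.blt r 13 then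
      bif Nat.blt r 11 then
       bif Nat.blt r 10 then
        [(1, 1, 17, -1), (1, 2, 14, 1), (1, 9, 21, -1), (1, 10, 18, 1), (1, 25, 6, -1), (1, 26, 3, 1)]
       else
        [(1, 0, 3, -1), (1, 1, 4, -1), (1, 2, 5, -1), (1, 19, 18, 1), (1, 22, 21, 1), (1, 25, 24, 1)]
      else
       bif Nat.blt r 12 then
        [(1, 7, 16, 1), (1, 8, 13, -1), (1, 9, 26, -1), (1, 11, 20, 1), (1, 21, 3, 1), (1, 22, 0, -1)]
       else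
        [(1, 7, 17, 1), (1, 8, 14, -1), (1, 9, 23, 1), (1, 10, 20, -1), (1, 24, 3, 1), (1, 25, 0, -1)]
     else
      bif Nat.blt r 15 then
       bif Nat.blt r 14 then
        [(1, 6, 3, 1), (1, 7, 4, 1), (1, 8, 5, 1), (1, 19, 20, -1), (1, 22, 23, -1), (1, 25, 26, -1)]
       else
        [(1, 2, 20, 1), (1, 8, 18, -1), (1, 9, 4, -1), (1, 12, 3, 1), (1, 22, 17, -1), (1, 25, 16, 1)]
      else
       bif Nat.blt r 16 then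
        [(1, 1, 20, -1), (1, 7, 18, 1), (1, 9, 5, -1), (1, 15, 3, 1), (1, 22, 14, 1), (1, 25, 13, -1)]
       else
        bif Nat.blt r 17 then
         [(1, 4, 15, -1), (1, 5, 12, 1), (1, 10, 25, -1), (1, 11, 22, 1), (1, 18, 6, 1), (1, 20, 0, -1)]
        else
         [(1, 11, 9, 1), (1, 14, 12, 1), (1, 17, 15, 1), (1, 18, 24, -1), (1, 19, 25, -1), (1, 20, 26, -1)]
   else
    bif Nat.blt r 27 then
     bif Nat.blt r 22 then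
      bif Nat.blt r 20 then
       bif Nat.blt r 19 then
        [(1, 10, 9, -1), (1, 13, 12, -1), (1, 16, 15, -1), (1, 18, 21, 1), (1, 19, 22, 1), (1, 20, 23, 1)]
       else
        [(1, 2, 25, 1), (1, 5, 24, -1), (1, 11, 7, 1), (1, 14, 6, -1), (1, 20, 16, 1), (1, 23, 15, -1)]
      else
       bif Nat.blt r 21 then
        [(1, 2, 22, -1), (1, 5, 21, 1), (1, 10, 7, -1), (1, 13, 6, 1), (1, 20, 17, 1), (1, 26, 15, -1)]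
       else
        [(1, 0, 15, 1), (1, 2, 9, -1), (1, 13, 24, -1), (1, 14, 21, 1), (1, 19, 7, -1), (1, 20, 4, 1)]
     else
      bif Nat.blt r 24 then
       bif Nat.blt r 23 then
        [(1, 1, 25, -1), (1, 4, 24, 1), (1, 11, 8, 1), (1, 17, 6, -1), (1, 20, 13, -1), (1, 23, 12, 1)]
       else
        [(1, 1, 22, 1), (1, 4, 21, -1), (1, 10, 8, -1), (1, 16, 6, 1), (1, 20, 14, -1), (1, 26, 12, 1)]
      else
       bif Nat.blt r 25 then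
        [(1, 0, 12, -1), (1, 1, 9, 1), (1, 16, 24, -1), (1, 17, 21, 1), (1, 19, 8, -1), (1, 20, 5, 1)]
       else
        bif Nat.blt r 26 then
         [(1, 0, 6, 1), (1, 1, 7, 1), (1, 2, 8, 1), (1, 20, 18, -1), (1, 23, 21, -1), (1, 26, 24, -1)]
        else
         [(1, 5, 26, 1), (1, 8, 25, -1), (1, 11, 1, 1), (1, 14, 0, -1), (1, 18, 16, 1), (1, 21, 15, -1)]
    else
     bif Nat.blt r 31 then
      bif Nat.blt r 29 then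
       bif Nat.blt r 28 then
        [(1, 5, 23, -1), (1, 8, 22, 1), (1, 10, 1, -1), (1, 13, 0, 1), (1, 18, 17, 1), (1, 24, 15, -1)]
       else
        [(1, 6, 15, -1), (1, 8, 9, 1), (1, 13, 26, 1), (1, 14, 23, -1), (1, 18, 4, 1), (1, 19, 1, -1)]
      else
       bif Nat.blt r 30 then
        [(1, 2, 1, 1), (1, 5, 4, 1), (1, 8, 7, 1), (1, 12, 15, -1), (1, 13, 16, -1), (1, 14, 17, -1)]
       else
        [(1, 4, 26, 1), (1, 7, 25, -1), (1, 11, 2, -1), (1, 17, 0, 1), (1, 18, 13, 1), (1, 21, 12, -1)]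
     else
      bif Nat.blt r 33 then
       bif Nat.blt r 32 then
        [(1, 4, 23, -1), (1, 7, 22, 1), (1, 10, 2, 1), (1, 16, 0, -1), (1, 18, 14, 1), (1, 24, 12, -1)]
       else
        [(1, 6, 12, -1), (1, 7, 9, 1), (1, 16, 26, -1), (1, 17, 23, 1), (1, 18, 5, -1), (1, 19, 2, 1)]
      else
       bif Nat.blt r 34 then
        [(1, 4, 16, 1), (1, 5, 13, -1), (1, 9, 25, -1), (1, 11, 19, 1), (1, 21, 6, -1), (1, 23, 0, 1)]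
       else
        bif Nat.blt r 35 then
         [(1, 4, 17, 1), (1, 5, 14, -1), (1, 9, 22, 1), (1, 10, 19, -1), (1, 24, 6, -1), (1, 26, 0, 1)]
        else
         [(1, 11, 10, 1), (1, 14, 13, 1), (1, 17, 16, 1), (1, 21, 24, -1), (1, 22, 25, -1), (1, 23, 26, -1)]
  else
   bif Nat.blt r 54 then
    bif Nat.blt r 45 then
     bif Nat.blt r 40 then
      bif Nat.blt r 38 then
       bif Nat.blt r 37 then
        [(1, 10, 11, 1), (1, 13, 14, 1), (1, 16, 17, 1), (1, 24, 21, -1), (1, 25, 22, -1), (1, 26, 23, -1)]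
       else
        [(1, 0, 26, 1), (1, 6, 24, -1), (1, 14, 5, -1), (1, 17, 4, 1), (1, 19, 10, -1), (1, 22, 9, 1)]
      else
       bif Nat.blt r 39 then
        [(1, 0, 23, 1), (1, 6, 21, -1), (1, 13, 5, -1), (1, 16, 4, 1), (1, 19, 11, 1), (1, 25, 9, -1)]
       else
        [(1, 2, 19, 1), (1, 5, 18, -1), (1, 9, 7, 1), (1, 12, 6, -1), (1, 23, 17, 1), (1, 26, 16, -1)]
     else
      bif Nat.blt r 42 then
       bif Nat.blt r 41 then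
        [(1, 0, 16, -1), (1, 2, 10, 1), (1, 12, 24, -1), (1, 14, 18, 1), (1, 22, 7, 1), (1, 23, 4, -1)]
       else
        [(1, 0, 17, 1), (1, 2, 11, -1), (1, 12, 21, -1), (1, 13, 18, 1), (1, 25, 7, -1), (1, 26, 4, 1)]
      else
       bif Nat.blt r 43 then
        [(1, 1, 2, 1), (1, 4, 5, 1), (1, 7, 8, 1), (1, 15, 12, -1), (1, 16, 13, -1), (1, 17, 14, -1)]
       else
        bif Nat.blt r 44 then
         [(1, 1, 19, -1), (1, 4, 18, 1), (1, 9, 8, 1), (1, 15, 6, -1), (1, 23, 14, -1), (1, 26, 13, 1)]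
        else
         [(1, 0, 13, 1), (1, 1, 10, -1), (1, 15, 24, -1), (1, 17, 18, 1), (1, 22, 8, 1), (1, 23, 5, -1)]
    else
     bif Nat.blt r 49 then
      bif Nat.blt r 47 then
       bif Nat.blt r 46 then
        [(1, 0, 14, -1), (1, 1, 11, 1), (1, 15, 21, -1), (1, 16, 18, 1), (1, 25, 8, -1), (1, 26, 5, 1)]
       else
        [(1, 6, 0, 1), (1, 7, 1, 1), (1, 8, 2, 1), (1, 18, 20, -1), (1, 21, 23, -1), (1, 24, 26, -1)]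
      else
       bif Nat.blt r 48 then
        [(1, 5, 20, 1), (1, 8, 19, -1), (1, 9, 1, 1), (1, 12, 0, -1), (1, 21, 17, 1), (1, 24, 16, -1)]
       else
        [(1, 6, 16, 1), (1, 8, 10, -1), (1, 12, 26, 1), (1, 14, 20, -1), (1, 21, 4, -1), (1, 22, 1, 1)]
     else
      bif Nat.blt r 51 then
       bif Nat.blt r 50 then
        [(1, 6, 17, -1), (1, 8, 11, 1), (1, 12, 23, 1), (1, 13, 20, -1), (1, 24, 4, 1), (1, 25, 1, -1)]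
       else
        [(1, 4, 20, 1), (1, 7, 19, -1), (1, 9, 2, -1), (1, 15, 0, 1), (1, 21, 14, 1), (1, 24, 13, -1)]
      else
       bif Nat.blt r 52 then
        [(1, 6, 13, 1), (1, 7, 10, -1), (1, 15, 26, -1), (1, 17, 20, 1), (1, 21, 5, 1), (1, 22, 2, -1)]
       else
        bif Nat.blt r 53 then
         [(1, 6, 14, -1), (1, 7, 11, 1), (1, 15, 23, -1), (1, 16, 20, 1), (1, 24, 5, -1), (1, 25, 2, 1)]
        else
         [(1, 9, 10, -1), (1, 12, 13, -1), (1, 15, 16, -1), (1, 21, 18, 1), (1, 22, 19, 1), (1, 23, 20, 1)]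
   else
    bif Nat.blt r 63 then
     bif Nat.blt r 58 then
      bif Nat.blt r 56 then
       bif Nat.blt r 55 then
        [(1, 9, 11, 1), (1, 12, 14, 1), (1, 15, 17, 1), (1, 24, 18, -1), (1, 25, 19, -1), (1, 26, 20, -1)]
       else
        [(1, 0, 20, -1), (1, 6, 18, 1), (1, 12, 5, 1), (1, 15, 4, -1), (1, 22, 11, 1), (1, 25, 10, -1)]
      else
       bif Nat.blt r 57 then
        [(1, 3, 15, 1), (1, 5, 9, -1), (1, 13, 25, -1), (1, 14, 22, 1), (1, 18, 7, 1), (1, 20, 1, -1)]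
       else
        [(1, 3, 12, 1), (1, 4, 9, -1), (1, 16, 25, 1), (1, 17, 22, -1), (1, 18, 8, -1), (1, 20, 2, 1)]
     else
      bif Nat.blt r 60 then
       bif Nat.blt r 59 then
        [(1, 3, 6, 1), (1, 4, 7, 1), (1, 5, 8, 1), (1, 20, 19, -1), (1, 23, 22, -1), (1, 26, 25, -1)]
       else
        [(1, 0, 25, -1), (1, 3, 24, 1), (1, 14, 8, -1), (1, 17, 7, 1), (1, 20, 10, -1), (1, 23, 9, 1)]
      else
       bif Nat.blt r 61 then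
        [(1, 0, 22, -1), (1, 3, 21, 1), (1, 13, 8, -1), (1, 16, 7, 1), (1, 20, 11, 1), (1, 26, 9, -1)]
       else
        bif Nat.blt r 62 then
         [(1, 3, 0, -1), (1, 4, 1, -1), (1, 5, 2, -1), (1, 18, 19, 1), (1, 21, 22, 1), (1, 24, 25, 1)]
        else
         [(1, 3, 26, 1), (1, 6, 25, -1), (1, 14, 2, 1), (1, 17, 1, -1), (1, 18, 10, 1), (1, 21, 9, -1)]
    else
     bif Nat.blt r 67 then
      bif Nat.blt r 65 then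
       bif Nat.blt r 64 then
        [(1, 3, 23, 1), (1, 6, 22, -1), (1, 13, 2, 1), (1, 16, 1, -1), (1, 18, 11, -1), (1, 24, 9, 1)]
       else
        [(1, 3, 16, 1), (1, 5, 10, -1), (1, 12, 25, 1), (1, 14, 19, -1), (1, 21, 7, 1), (1, 23, 1, -1)]
      else
       bif Nat.blt r 66 then
        [(1, 3, 17, -1), (1, 5, 11, 1), (1, 12, 22, 1), (1, 13, 19, -1), (1, 24, 7, -1), (1, 26, 1, 1)]
       else
        [(1, 0, 1, 1), (1, 3, 4, 1), (1, 6, 7, 1), (1, 12, 9, -1), (1, 13, 10, -1), (1, 14, 11, -1)]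
     else
      bif Nat.blt r 69 then
       bif Nat.blt r 68 then
        [(1, 3, 13, 1), (1, 4, 10, -1), (1, 15, 25, -1), (1, 17, 19, 1), (1, 21, 8, -1), (1, 23, 2, 1)]
       else
        [(1, 3, 14, -1), (1, 4, 11, 1), (1, 15, 22, -1), (1, 16, 19, 1), (1, 24, 8, 1), (1, 26, 2, -1)]
      else
       bif Nat.blt r 70 then
        [(1, 0, 2, -1), (1, 3, 5, -1), (1, 6, 8, -1), (1, 15, 9, 1), (1, 16, 10, 1), (1, 17, 11, 1)]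
       else
        bif Nat.blt r 71 then
         [(1, 0, 19, 1), (1, 3, 18, -1), (1, 12, 8, 1), (1, 15, 7, -1), (1, 23, 11, 1), (1, 26, 10, -1)]
        else
         [(1, 3, 20, -1), (1, 6, 19, 1), (1, 12, 2, -1), (1, 15, 1, 1), (1, 21, 11, -1), (1, 24, 10, 1)]

/-- The representation. -/
def rep : Natural.RepData := ⟨27, ent⟩

/-- The monomials of the cubic form. -/
def tri : List (ℤ × ℕ × ℕ × ℕ) := [
  (1, 0, 4, 8), (-1, 0, 5, 7), (-1, 1, 3, 8), (1, 1, 5, 6), (1, 2, 3, 7), (-1, 2, 4, 6), (1, 9, 13, 17), (-1, 9, 14, 16), (-1, 10, 12, 17),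
  (1, 10, 14, 15), (1, 11, 12, 16), (-1, 11, 13, 15), (1, 18, 22, 26), (-1, 18, 23, 25), (-1, 19, 21, 26), (1, 19, 23, 24), (1, 20, 21, 25), (-1, 20, 22, 24),
  (-1, 0, 9, 18), (-1, 0, 10, 21), (-1, 0, 11, 24), (-1, 1, 12, 18), (-1, 1, 13, 21), (-1, 1, 14, 24), (-1, 2, 15, 18), (-1, 2, 16, 21), (-1, 2, 17, 24),
  (-1, 3, 9, 19), (-1, 3, 10, 22), (-1, 3, 11, 25), (-1, 4, 12, 19), (-1, 4, 13, 22), (-1, 4, 14, 25), (-1, 5, 15, 19), (-1, 5, 16, 22), (-1, 5, 17, 25),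
  (-1, 6, 9, 20), (-1, 6, 10, 23), (-1, 6, 11, 26), (-1, 7, 12, 20), (-1, 7, 13, 23), (-1, 7, 14, 26), (-1, 8, 15, 20), (-1, 8, 16, 23), (-1, 8, 17, 26)]

/-- A step of the stabiliser chain. -/
structure Step where
  /-- The line to fix. -/
  a : ℕ
  /-- Forced zero coordinates. -/
  z : List (ℕ × ℕ × ℕ)
  /-- Moves towards the pivot. -/
  path : List (ℕ × ℕ × ℕ)
  /-- Clearing moves. -/
  clr : List (ℕ × ℕ)
  /-- Coordinates cleared by the quadrics. -/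
  white : List (ℕ × ℕ)
  /-- The kind of exclusion. -/
  kind : ℕ
  /-- The lines used by the exclusion. -/
  ex : List ℕ
  /-- The witness of the exclusion. -/
  ez : ℕ


/-- Step 0 of the chain. -/
def step0 : Step :=
  ⟨0, [],
    [(3, 10, 0), (15, 21, 0), (12, 24, 0), (6, 25, 0), (26, 37, 0), (23, 38, 0), (16, 40, 0), (17, 41, 0), (13, 44, 0), (14, 45, 0), (20, 55, 0), (25, 59, 0), (22, 60, 0), (1, 66, 0), (2, 69, 0), (19, 70, 0), (24, 59, 3), (21, 60, 3), (4, 66, 3), (5, 69, 3), (18, 70, 3), (9, 69, 15), (7, 70, 15), (8, 70, 12), (10, 70, 26), (11, 70, 23)],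
    [(1, 5), (2, 2), (3, 61), (6, 46), (12, 47), (13, 27), (14, 26), (15, 50), (16, 31), (17, 30), (19, 1), (20, 16), (22, 11), (23, 33), (25, 12), (26, 34)],
    [(4, 8), (5, 7), (7, 5), (8, 4), (9, 18), (10, 21), (11, 24), (18, 9), (21, 10), (24, 11)], 0, [], 0⟩

/-- Step 1 of the chain. -/
def step1 : Step :=
  ⟨4, [],
    [(24, 22, 4), (21, 23, 4), (5, 42, 4), (18, 43, 4), (9, 57, 4), (7, 58, 4), (10, 67, 4), (11, 68, 4), (8, 68, 24)],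
    [(1, 10), (3, 66), (5, 29), (7, 13), (9, 14), (10, 4), (11, 3), (15, 55), (16, 38), (17, 37), (18, 28), (20, 21), (21, 48), (23, 40), (24, 49), (26, 41)],
    [(0, 8), (2, 6), (6, 2), (8, 0), (12, 19), (13, 22), (14, 25), (19, 12), (22, 13), (25, 14)], 1, [0], 0⟩

/-- Step 2 of the chain. -/
def step2 : Step :=
  ⟨1, [(0, 4, 8), (2, 4, 6), (4, 0, 8), (5, 0, 7), (6, 4, 2), (7, 0, 5), (8, 4, 0), (9, 0, 18), (10, 0, 21), (11, 0, 24), (12, 4, 19), (13, 4, 22), (14, 4, 25), (18, 0, 9), (19, 4, 12), (21, 0, 10), (22, 4, 13), (24, 0, 11), (25, 4, 14)],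
    [(15, 0, 1), (26, 6, 1), (23, 7, 1), (16, 8, 1), (17, 9, 1), (20, 15, 1), (25, 22, 1), (22, 23, 1), (9, 24, 1), (7, 25, 1), (2, 42, 1), (19, 43, 1), (10, 44, 1), (11, 45, 1), (3, 15, 15), (12, 42, 15), (6, 43, 15), (24, 44, 15), (21, 45, 15), (13, 43, 26), (5, 45, 26), (14, 43, 23), (18, 45, 16), (8, 45, 25)],
    [(15, 71), (16, 63), (17, 62), (20, 56), (23, 64), (26, 65)],
    [(3, 8), (5, 6), (6, 5), (8, 3), (12, 18), (13, 21), (14, 24), (18, 12), (21, 13), (24, 14)], 0, [], 0⟩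

/-- Step 3 of the chain. -/
def step3 : Step :=
  ⟨3, [(0, 4, 8), (2, 4, 6), (4, 0, 8), (5, 0, 7), (6, 4, 2), (7, 0, 5), (8, 4, 0), (9, 0, 18), (10, 0, 21), (11, 0, 24), (12, 4, 19), (13, 4, 22), (14, 4, 25), (18, 0, 9), (19, 4, 12), (21, 0, 10), (22, 4, 13), (24, 0, 11), (25, 4, 14)],
    [(12, 57, 3), (6, 58, 3), (24, 59, 3), (21, 60, 3), (13, 67, 3), (14, 68, 3), (5, 69, 3), (18, 70, 3), (8, 70, 12)],
    [(15, 15), (16, 7), (17, 6), (20, 0), (23, 8), (26, 9)],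
    [(1, 8), (2, 7), (7, 2), (8, 1), (9, 19), (10, 22), (11, 25), (19, 9), (22, 10), (25, 11)], 1, [1], 0⟩

/-- Step 4 of the chain. -/
def step4 : Step :=
  ⟨15, [(0, 4, 8), (1, 3, 8), (2, 3, 7), (3, 1, 8), (4, 0, 8), (5, 1, 6), (6, 1, 5), (7, 3, 2), (8, 3, 1), (9, 3, 19), (10, 3, 22), (11, 3, 25), (12, 1, 18), (13, 1, 21), (14, 1, 24), (18, 1, 12), (19, 3, 9), (21, 1, 13), (22, 3, 10), (24, 1, 14), (25, 3, 11)],
    [(12, 42, 15), (6, 43, 15), (24, 44, 15), (21, 45, 15), (26, 51, 15), (23, 52, 15), (16, 53, 15), (17, 54, 15), (25, 67, 15), (22, 68, 15), (9, 69, 15), (7, 70, 15), (13, 53, 12), (14, 54, 12), (8, 70, 12), (5, 52, 24), (18, 54, 24), (20, 54, 26), (2, 68, 26), (10, 70, 26), (11, 70, 23), (19, 68, 16)],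
    [(16, 18), (17, 17), (23, 19), (26, 20)],
    [(2, 18), (5, 19), (8, 20), (10, 14), (11, 13), (13, 11), (14, 10), (18, 2), (19, 5), (20, 8)], 0, [], 0⟩

/-- Step 5 of the chain. -/
def step5 : Step :=
  ⟨20, [(0, 4, 8), (1, 3, 8), (2, 3, 7), (3, 1, 8), (4, 0, 8), (5, 1, 6), (6, 1, 5), (7, 3, 2), (8, 3, 1), (9, 3, 19), (10, 3, 22), (11, 3, 25), (12, 1, 18), (13, 1, 21), (14, 1, 24), (18, 1, 12), (19, 3, 9), (21, 1, 13), (22, 3, 10), (24, 1, 14), (25, 3, 11)],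
    [(13, 22, 20), (14, 23, 20), (5, 24, 20), (18, 25, 20), (2, 57, 20), (19, 58, 20), (10, 59, 20), (11, 60, 20), (8, 60, 13)],
    [(16, 52), (17, 51), (23, 53), (26, 54)],
    [(6, 9), (7, 12), (8, 15), (9, 6), (12, 7), (15, 8), (21, 25), (22, 24), (24, 22), (25, 21)], 1, [15], 0⟩

/-- Step 6 of the chain. -/
def step6 : Step :=
  ⟨16, [(0, 4, 8), (1, 3, 8), (2, 15, 18), (3, 1, 8), (4, 0, 8), (5, 15, 19), (6, 20, 9), (7, 20, 12), (8, 20, 15), (9, 20, 6), (10, 15, 14), (11, 15, 13), (12, 20, 7), (13, 15, 11), (14, 15, 10), (15, 20, 8), (18, 15, 2), (19, 15, 5), (20, 15, 8), (21, 20, 25), (22, 20, 24), (24, 20, 22), (25, 20, 21)],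
    [(6, 23, 16), (24, 24, 16), (26, 32, 16), (17, 36, 16), (13, 42, 16), (18, 45, 16), (25, 57, 16), (7, 60, 16), (19, 68, 16), (10, 69, 16), (12, 32, 6), (8, 69, 6), (21, 36, 24), (23, 36, 26), (5, 45, 26), (9, 60, 26), (2, 68, 26), (14, 42, 17), (22, 57, 17), (11, 69, 17)],
    [(17, 35), (26, 39)],
    [(2, 21), (5, 22), (8, 23), (9, 14), (11, 12), (12, 11), (14, 9), (21, 2), (22, 5), (23, 8)], 0, [], 0⟩

/-- Step 7 of the chain. -/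
def step7 : Step :=
  ⟨23, [(0, 4, 8), (1, 3, 8), (2, 15, 18), (3, 1, 8), (4, 0, 8), (5, 15, 19), (6, 20, 9), (7, 20, 12), (8, 20, 15), (9, 20, 6), (10, 15, 14), (11, 15, 13), (12, 20, 7), (13, 15, 11), (14, 15, 10), (15, 20, 8), (18, 15, 2), (19, 15, 5), (20, 15, 8), (21, 20, 25), (22, 20, 24), (24, 20, 22), (25, 20, 21)],
    [(12, 22, 23), (21, 25, 23), (14, 43, 23), (5, 44, 23), (22, 58, 23), (9, 59, 23), (2, 67, 23), (11, 70, 23), (8, 70, 12)],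
    [(17, 32), (26, 36)],
    [(6, 10), (7, 13), (8, 16), (10, 6), (13, 7), (16, 8), (18, 25), (19, 24), (24, 19), (25, 18)], 1, [16], 0⟩

/-- Step 8 of the chain. -/
def step8 : Step :=
  ⟨17, [(0, 4, 8), (1, 3, 8), (2, 16, 21), (3, 1, 8), (4, 0, 8), (5, 16, 22), (6, 23, 10), (7, 23, 13), (8, 23, 16), (9, 16, 14), (10, 23, 6), (11, 16, 12), (12, 16, 11), (13, 23, 7), (14, 16, 9), (15, 20, 8), (16, 23, 8), (18, 23, 25), (19, 23, 24), (20, 15, 8), (21, 16, 2), (22, 16, 5), (23, 16, 8), (24, 23, 19), (25, 23, 18)],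
    [(6, 22, 17), (21, 24, 17), (14, 42, 17), (18, 44, 17), (22, 57, 17), (7, 59, 17), (19, 67, 17), (11, 69, 17), (8, 69, 6)],
    [],
    [(2, 24), (5, 25), (8, 26), (9, 13), (10, 12), (12, 10), (13, 9), (24, 2), (25, 5), (26, 8)], 2, [0, 1, 15, 23], 22⟩

/-- Step 9 of the chain. -/
def step9 : Step :=
  ⟨6, [(1, 3, 8), (2, 17, 24), (4, 0, 8), (5, 17, 25), (7, 3, 2), (8, 17, 26), (9, 17, 13), (10, 17, 12), (11, 16, 12), (12, 17, 10), (13, 17, 9), (14, 16, 9), (18, 15, 2), (19, 15, 5), (20, 15, 8), (21, 16, 2), (22, 16, 5), (23, 16, 8), (24, 17, 2), (25, 17, 5), (26, 17, 8)],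
    [(8, 69, 6)],
    [(0, 25), (3, 58), (15, 43), (16, 23), (17, 22)],
    [(1, 5), (2, 4), (4, 2), (5, 1), (9, 20), (10, 23), (11, 26), (20, 9), (23, 10), (26, 11)], 0, [], 0⟩

/-- Step 10 of the chain. -/
def step10 : Step :=
  ⟨7, [(0, 4, 8), (1, 6, 5), (2, 6, 4), (3, 1, 8), (4, 6, 2), (5, 6, 1), (6, 1, 5), (8, 17, 26), (9, 6, 20), (10, 6, 23), (11, 6, 26), (12, 17, 10), (13, 17, 9), (14, 16, 9), (18, 15, 2), (19, 15, 5), (20, 6, 9), (21, 16, 2), (22, 16, 5), (23, 6, 10), (24, 17, 2), (25, 17, 5), (26, 6, 11)],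
    [(8, 42, 7)],
    [(15, 70), (16, 60), (17, 59)],
    [(0, 5), (2, 3), (3, 2), (5, 0), (12, 20), (13, 23), (14, 26), (20, 12), (23, 13), (26, 14)], 0, [], 0⟩

/-- Step 11 of the chain. -/
def step11 : Step :=
  ⟨26, [(0, 4, 8), (1, 3, 8), (2, 7, 3), (3, 1, 8), (4, 0, 8), (5, 7, 0), (6, 23, 10), (7, 23, 13), (8, 23, 16), (9, 6, 20), (10, 6, 23), (11, 16, 12), (12, 7, 20), (13, 7, 23), (14, 16, 9), (15, 20, 8), (16, 23, 8), (18, 23, 25), (19, 23, 24), (20, 15, 8), (21, 16, 2), (22, 16, 5), (23, 16, 8), (24, 23, 19), (25, 23, 18)],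
    [(5, 45, 26), (2, 68, 26)],
    [],
    [(6, 11), (7, 14), (8, 17), (11, 6), (14, 7), (17, 8), (18, 22), (19, 21), (21, 19), (22, 18)], 0, [], 0⟩

/-- Step 12 of the chain. -/
def step12 : Step :=
  ⟨9, [(0, 7, 5), (2, 7, 3), (3, 7, 2), (5, 7, 0), (6, 26, 11), (7, 26, 14), (8, 26, 17), (10, 6, 23), (11, 26, 6), (12, 7, 20), (13, 7, 23), (14, 26, 7), (16, 23, 8), (17, 26, 8), (18, 26, 22), (19, 26, 21), (20, 7, 12), (21, 26, 19), (22, 26, 18), (23, 7, 13), (24, 23, 19), (25, 23, 18), (26, 7, 14)],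
    [],
    [(1, 24), (4, 57), (15, 69)],
    [(0, 18), (3, 19), (6, 20), (13, 17), (14, 16), (16, 14), (17, 13), (18, 0), (19, 3), (20, 6)], 0, [], 0⟩

/-- Step 13 of the chain. -/
def step13 : Step :=
  ⟨12, [(0, 9, 18), (1, 6, 5), (2, 7, 3), (3, 9, 19), (4, 6, 2), (5, 7, 0), (6, 9, 20), (7, 26, 14), (8, 26, 17), (9, 6, 20), (10, 6, 23), (11, 26, 6), (13, 9, 17), (14, 9, 16), (16, 9, 14), (17, 9, 13), (18, 9, 0), (19, 9, 3), (20, 9, 6), (21, 26, 19), (22, 26, 18), (23, 6, 10), (24, 23, 19), (25, 23, 18), (26, 6, 11)],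
    [],
    [(15, 42)],
    [(1, 18), (4, 19), (7, 20), (10, 17), (11, 16), (16, 11), (17, 10), (18, 1), (19, 4), (20, 7)], 0, [], 0⟩

/-- Step 14 of the chain. -/
def step14 : Step :=
  ⟨2, [(0, 9, 18), (1, 12, 18), (3, 9, 19), (4, 12, 19), (5, 7, 0), (6, 9, 20), (7, 12, 20), (8, 26, 17), (9, 6, 20), (10, 12, 17), (11, 12, 16), (12, 7, 20), (13, 9, 17), (14, 9, 16), (15, 20, 8), (16, 12, 11), (17, 12, 10), (18, 12, 1), (19, 12, 4), (20, 12, 7), (21, 26, 19), (22, 26, 18), (24, 23, 19), (25, 23, 18)],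
    [],
    [(23, 67), (26, 68)],
    [(3, 7), (4, 6), (6, 4), (7, 3), (15, 18), (16, 21), (17, 24), (18, 15), (21, 16), (24, 17)], 0, [], 0⟩

/-- Step 15 of the chain. -/
def step15 : Step :=
  ⟨19, [(0, 7, 5), (1, 6, 5), (2, 7, 3), (3, 2, 7), (4, 2, 6), (5, 7, 0), (6, 2, 4), (7, 2, 3), (8, 26, 17), (9, 6, 20), (10, 12, 17), (11, 12, 16), (12, 7, 20), (13, 9, 17), (14, 9, 16), (15, 2, 18), (16, 2, 21), (17, 2, 24), (18, 2, 15), (20, 12, 7), (21, 2, 16), (22, 16, 5), (23, 7, 13), (24, 2, 17), (25, 17, 5), (26, 7, 14)],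
    [],
    [],
    [(3, 9), (4, 12), (5, 15), (9, 3), (12, 4), (15, 5), (21, 26), (23, 24), (24, 23), (26, 21)], 0, [], 0⟩

/-- Step 16 of the chain. -/
def step16 : Step :=
  ⟨10, [(0, 9, 18), (2, 7, 3), (3, 19, 9), (4, 19, 12), (5, 19, 15), (6, 2, 4), (7, 2, 3), (8, 26, 17), (9, 19, 3), (11, 12, 16), (12, 19, 4), (13, 9, 17), (14, 9, 16), (15, 19, 5), (16, 2, 21), (17, 2, 24), (18, 2, 15), (19, 12, 4), (20, 12, 7), (21, 19, 26), (22, 26, 18), (23, 19, 24), (24, 19, 23), (25, 20, 21), (26, 19, 21)],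
    [],
    [(1, 44)],
    [(0, 21), (3, 22), (6, 23), (12, 17), (14, 15), (15, 14), (17, 12), (21, 0), (22, 3), (23, 6)], 0, [], 0⟩

/-- Step 17 of the chain. -/
def step17 : Step :=
  ⟨13, [(0, 10, 21), (1, 12, 18), (2, 7, 3), (3, 10, 22), (4, 19, 12), (5, 19, 15), (6, 10, 23), (7, 2, 3), (8, 26, 17), (9, 19, 3), (10, 12, 17), (11, 12, 16), (12, 10, 17), (14, 10, 15), (15, 10, 14), (16, 2, 21), (17, 10, 12), (18, 2, 15), (19, 12, 4), (20, 12, 7), (21, 10, 0), (22, 10, 3), (23, 10, 6), (24, 19, 23), (25, 20, 21), (26, 19, 21)],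
    [],
    [],
    [(1, 21), (4, 22), (7, 23), (9, 17), (11, 15), (15, 11), (17, 9), (21, 1), (22, 4), (23, 7)], 0, [], 0⟩

/-- Step 18 of the chain. -/
def step18 : Step :=
  ⟨22, [(0, 9, 18), (1, 12, 18), (2, 7, 3), (3, 19, 9), (4, 19, 12), (5, 19, 15), (6, 10, 23), (7, 13, 23), (8, 26, 17), (9, 13, 17), (10, 12, 17), (11, 13, 15), (12, 10, 17), (13, 9, 17), (14, 10, 15), (15, 19, 5), (16, 2, 21), (17, 13, 9), (18, 2, 15), (19, 12, 4), (20, 12, 7), (21, 13, 1), (23, 13, 7), (24, 19, 23), (25, 17, 5), (26, 19, 21)],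
    [],
    [],
    [(3, 10), (4, 13), (5, 16), (10, 3), (13, 4), (16, 5), (18, 26), (20, 24), (24, 20), (26, 18)], 0, [], 0⟩

/-- Step 19 of the chain. -/
def step19 : Step :=
  ⟨24, [(0, 10, 21), (1, 13, 21), (2, 7, 3), (3, 22, 10), (4, 22, 13), (5, 22, 16), (6, 10, 23), (7, 13, 23), (8, 26, 17), (9, 13, 17), (10, 22, 3), (11, 13, 15), (12, 10, 17), (13, 22, 4), (14, 10, 15), (15, 13, 11), (16, 12, 11), (17, 13, 9), (18, 22, 26), (19, 12, 4), (20, 12, 7), (21, 13, 1), (22, 13, 4), (23, 13, 7), (25, 3, 11), (26, 7, 14)],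
    [],
    [],
    [(0, 11), (1, 14), (2, 17), (11, 0), (14, 1), (17, 2), (19, 23), (20, 22), (22, 20), (23, 19)], 0, [], 0⟩

/-- Step 20 of the chain. -/
def step20 : Step :=
  ⟨5, [(0, 24, 11), (1, 24, 14), (2, 24, 17), (3, 22, 10), (4, 22, 13), (6, 10, 23), (7, 13, 23), (8, 26, 17), (9, 13, 17), (10, 22, 3), (11, 24, 0), (12, 10, 17), (13, 22, 4), (14, 24, 1), (15, 13, 11), (16, 2, 21), (17, 24, 2), (18, 22, 26), (19, 24, 23), (20, 24, 22), (21, 13, 1), (22, 24, 20), (23, 24, 19), (24, 22, 20), (25, 23, 18)],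
    [],
    [(26, 45)],
    [(0, 7), (1, 6), (6, 1), (7, 0), (15, 19), (16, 22), (17, 25), (19, 15), (22, 16), (25, 17)], 0, [], 0⟩

/-- Step 21 of the chain. -/
def step21 : Step :=
  ⟨8, [(0, 5, 7), (1, 5, 6), (2, 24, 17), (3, 22, 10), (4, 22, 13), (5, 22, 16), (6, 5, 1), (7, 5, 0), (9, 13, 17), (10, 22, 3), (11, 24, 0), (12, 10, 17), (13, 22, 4), (14, 24, 1), (15, 5, 19), (16, 5, 22), (17, 5, 25), (18, 22, 26), (19, 5, 15), (20, 24, 22), (21, 13, 1), (22, 5, 16), (23, 24, 19), (24, 22, 20), (25, 5, 17), (26, 22, 18)],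
    [],
    [],
    [(0, 4), (1, 3), (3, 1), (4, 0), (15, 20), (16, 23), (17, 26), (20, 15), (23, 16), (26, 17)], 0, [], 0⟩

/-- Step 22 of the chain. -/
def step22 : Step :=
  ⟨11, [(0, 8, 4), (1, 8, 3), (2, 24, 17), (3, 8, 1), (4, 8, 0), (5, 22, 16), (6, 5, 1), (7, 5, 0), (8, 26, 17), (9, 13, 17), (10, 22, 3), (12, 10, 17), (13, 22, 4), (14, 24, 1), (15, 8, 20), (16, 8, 23), (17, 8, 26), (18, 22, 26), (19, 5, 15), (20, 8, 15), (21, 13, 1), (22, 5, 16), (23, 8, 16), (24, 22, 20), (25, 5, 17), (26, 8, 17)],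
    [],
    [],
    [(0, 24), (3, 25), (6, 26), (12, 16), (13, 15), (15, 13), (16, 12), (24, 0), (25, 3), (26, 6)], 0, [], 0⟩

/-- Step 23 of the chain. -/
def step23 : Step :=
  ⟨14, [(0, 11, 24), (1, 8, 3), (2, 24, 17), (3, 11, 25), (4, 8, 0), (5, 22, 16), (6, 11, 26), (7, 5, 0), (8, 26, 17), (9, 13, 17), (10, 22, 3), (11, 24, 0), (12, 11, 16), (13, 11, 15), (15, 11, 13), (16, 11, 12), (17, 8, 26), (18, 22, 26), (19, 5, 15), (20, 8, 15), (21, 13, 1), (22, 5, 16), (23, 8, 16), (24, 11, 0), (25, 11, 3), (26, 11, 6)],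
    [],
    [],
    [(1, 24), (4, 25), (7, 26), (9, 16), (10, 15), (15, 10), (16, 9), (24, 1), (25, 4), (26, 7)], 0, [], 0⟩

/-- Step 24 of the chain. -/
def step24 : Step :=
  ⟨18, [(0, 11, 24), (1, 14, 24), (2, 24, 17), (3, 11, 25), (4, 14, 25), (5, 22, 16), (6, 11, 26), (7, 14, 26), (8, 26, 17), (9, 14, 16), (10, 14, 15), (11, 24, 0), (12, 11, 16), (13, 11, 15), (14, 24, 1), (15, 14, 10), (16, 14, 9), (17, 8, 26), (19, 5, 15), (20, 8, 15), (21, 13, 1), (22, 5, 16), (23, 8, 16), (24, 14, 1), (25, 14, 4), (26, 14, 7)],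
    [],
    [],
    [(0, 9), (1, 12), (2, 15), (9, 0), (12, 1), (15, 2), (22, 26), (23, 25), (25, 23), (26, 22)], 0, [], 0⟩

/-- Step 25 of the chain. -/
def step25 : Step :=
  ⟨21, [(0, 18, 9), (1, 18, 12), (2, 18, 15), (3, 11, 25), (4, 14, 25), (5, 22, 16), (6, 11, 26), (7, 14, 26), (8, 26, 17), (9, 18, 0), (10, 14, 15), (11, 24, 0), (12, 18, 1), (13, 11, 15), (14, 24, 1), (15, 18, 2), (16, 14, 9), (17, 8, 26), (18, 22, 26), (19, 5, 15), (20, 8, 15), (22, 18, 26), (23, 18, 25), (24, 14, 1), (25, 18, 23), (26, 18, 22)],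
    [],
    [],
    [(0, 10), (1, 13), (2, 16), (10, 0), (13, 1), (16, 2), (19, 26), (20, 25), (25, 20), (26, 19)], 0, [], 0⟩

/-- Step 26 of the chain. -/
def step26 : Step :=
  ⟨25, [(0, 21, 10), (1, 21, 13), (2, 21, 16), (3, 8, 1), (4, 8, 0), (5, 22, 16), (6, 11, 26), (7, 14, 26), (8, 26, 17), (9, 18, 0), (10, 21, 0), (11, 24, 0), (12, 18, 1), (13, 21, 1), (14, 24, 1), (15, 18, 2), (16, 21, 2), (17, 8, 26), (18, 22, 26), (19, 21, 26), (20, 8, 15), (21, 13, 1), (22, 18, 26), (23, 8, 16), (24, 14, 1), (26, 21, 19)],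
    [],
    [],
    [(3, 11), (4, 14), (5, 17), (11, 3), (14, 4), (17, 5), (18, 23), (20, 21), (21, 20), (23, 18)], 0, [], 0⟩

/-- The chain. -/
def steps : List Step :=
  [step0, step1, step2, step3, step4, step5, step6, step7, step8, step9, step10, step11, step12, step13, step14, step15, step16, step17, step18, step19, step20, step21, step22, step23, step24, step25, step26]

/-- The weights. -/
def om (a i : ℕ) : ℤ := ([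
  [0, -1, 0, 0, 1, 0], [-1, -1, 1, 0, 0, 0], [0, -1, -1, 1, 0, 0], [1, 0, 0, 0, 0, 0], [0, 0, 1, 0, -1, 0], [1, 0, -1, 1, -1, 0],
  [0, 1, 0, -1, 1, 0], [-1, 1, 1, -1, 0, 0], [0, 1, -1, 0, 0, 0], [-1, 0, 0, 1, -1, 0], [0, 0, 0, 0, -1, 1], [0, 0, 0, 0, 0, -1],
  [0, 0, -1, 1, 0, 0], [1, 0, -1, 0, 0, 1], [1, 0, -1, 0, 1, -1], [-1, 0, 1, 0, 0, 0], [0, 0, 1, -1, 0, 1], [0, 0, 1, -1, 1, -1],
  [1, 1, 0, -1, 0, 0], [0, 0, 0, -1, 1, 0], [1, -1, 0, 0, 0, 0], [0, 1, 0, 0, 0, -1], [-1, 0, 0, 0, 1, -1], [0, -1, 0, 1, 0, -1],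
  [0, 1, 0, 0, -1, 1], [-1, 0, 0, 0, 0, 1], [0, -1, 0, 1, -1, 1]].getD a []).getD i 0

/-- Preimages of the fundamental weights. -/
def pre (i a : ℕ) : ℤ := ([
  [0, 0, 0, 1, 0, 0, 0, 0, 0, 0, 0, 0, 0, 0, 0, 0, 0, 0, 0, 0, 0, 0, 0, 0, 0, 0, 0],
  [1, -1, -1, 0, 0, 0, 0, 0, 0, 1, 0, 0, 0, 0, 0, 0, 0, 0, 0, 0, 0, 0, 0, 0, 0, 0, 0],
  [1, 0, -1, 1, 0, 0, 0, 0, 0, 1, 0, 0, 0, 0, 0, 0, 0, 0, 0, 0, 0, 0, 0, 0, 0, 0, 0],
  [2, -1, -1, 1, 0, 0, 0, 0, 0, 2, 0, 0, 0, 0, 0, 0, 0, 0, 0, 0, 0, 0, 0, 0, 0, 0, 0],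
  [2, -1, -1, 0, 0, 0, 0, 0, 0, 1, 0, 0, 0, 0, 0, 0, 0, 0, 0, 0, 0, 0, 0, 0, 0, 0, 0],
  [2, -1, -1, 0, 0, 0, 0, 0, 0, 1, 1, 0, 0, 0, 0, 0, 0, 0, 0, 0, 0, 0, 0, 0, 0, 0, 0]].getD i []).getD a 0

/-- Relations among the weights. -/
def rel (a k : ℕ) : ℤ := ([
  [0, 0, 0, 0, 0, 0, 0, 0, 0, 0, 0, 0, 0, 0, 0, 0, 0, 0, 0, 0, 0, 0, 0, 0, 0, 0, 0, 0, 0, 0, 0, 0, 0, 0, 0, 0, 0, 0, 0, 0, 0, 0, 0, 0, 0],
  [0, 0, 0, 0, 0, 0, 0, 0, 0, 0, 0, 0, 0, 0, 0, 0, 0, 0, 0, 0, 0, 0, 0, 0, 0, 0, 0, 0, 0, 0, 0, 0, 0, 0, 0, 0, 0, 0, 0, 0, 0, 0, 0, 0, 0],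
  [0, 0, 0, 0, 0, 0, 0, 0, 0, 0, 0, 0, 0, 0, 0, 0, 0, 0, 0, 0, 0, 0, 0, 0, 0, 0, 0, 0, 0, 0, 0, 0, 0, 0, 0, 0, 0, 0, 0, 0, 0, 0, 0, 0, 0],
  [0, 0, 0, 0, 0, 0, 0, 0, 0, 0, 0, 0, 0, 0, 0, 0, 0, 0, 0, 0, 0, 0, 0, 0, 0, 0, 0, 0, 0, 0, 0, 0, 0, 0, 0, 0, 0, 0, 0, 0, 0, 0, 0, 0, 0],
  [1, 0, -1, 0, 0, 0, 0, 0, 0, 0, 0, 0, 0, 0, 0, 0, 0, 0, 0, 0, 0, 0, 0, 0, 0, 0, 0, 0, 0, 0, 0, 0, 0, 0, 0, 0, 0, 0, 0, 0, 0, 0, 0, 0, 0],
  [1, 0, 0, 0, -1, 0, 0, 0, 0, 0, 0, 0, 0, 0, 0, 0, 0, 0, 0, 0, 0, 0, 0, 0, 0, 0, 0, 0, 0, 0, -1, 0, 0, 1, 0, 0, 0, 0, 0, 1, 0, 0, -1, 0, 0],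
  [-1, 0, 1, 0, 1, 0, 0, 0, 0, 0, 0, 0, 0, 0, 0, 0, 0, 0, 0, 0, 0, 0, 0, 0, 0, 0, 0, -1, 0, 0, 1, 0, 0, 0, 0, 0, 1, 0, 0, -1, 0, 0, 0, 0, 0],
  [0, 0, 0, 0, 1, 0, 0, 0, 0, 0, 0, 0, 0, 0, 0, 0, 0, 0, 0, 0, 0, 0, 0, 0, 0, 0, 0, 0, 0, 0, 0, 0, 0, 0, 0, 0, 0, 0, 0, 0, 0, 0, 0, 0, 0],
  [0, 0, 1, 0, 0, 0, 0, 0, 0, 0, 0, 0, 0, 0, 0, 0, 0, 0, 0, 0, 0, 0, 0, 0, 0, 0, 0, 0, 0, 0, 0, 0, 0, 0, 0, 0, 0, 0, 0, 0, 0, 0, 0, 0, 0],
  [0, 0, 0, 0, 0, 0, 0, 0, 0, 0, 0, 0, 0, 0, 0, 0, 0, 0, 0, 0, 0, 0, 0, 0, 0, 0, 0, 0, 0, 0, 0, 0, 0, 0, 0, 0, 0, 0, 0, 0, 0, 0, 0, 0, 0],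
  [0, 0, 0, 0, 0, 0, 0, 0, 0, 0, 0, 0, 0, 0, 0, 0, 0, 0, 0, 0, 0, 0, 0, 0, 0, 0, 0, 0, 0, 0, 0, 0, 0, 0, 0, 0, 0, 0, 0, 0, 0, 0, 0, 0, 0],
  [2, 0, -1, 0, -1, 0, -1, 0, 1, 0, 1, 0, 0, 0, 0, 0, 0, 0, 0, 0, 0, 0, 0, 0, 0, 0, 0, 2, 0, 0, -3, 1, 0, 1, -1, 0, 0, 0, 0, 1, 0, 0, -1, 0, 0],
  [-1, 0, 1, 0, 0, 0, 0, 0, 0, 0, 0, 0, 0, 0, 0, 0, 0, 0, 0, 0, 0, 0, 0, 0, 0, 0, 0, -1, 0, 0, 1, 0, 0, 0, 0, 0, 0, 0, 0, 0, 0, 0, 0, 0, 0],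
  [-1, 0, 1, 0, 0, 0, 1, 0, -1, 0, 0, 0, 0, 0, 0, 0, 0, 0, 0, 0, 0, 0, 0, 0, 0, 0, 0, -1, 0, 0, 1, 0, 0, 0, 0, 0, 0, 0, 0, 0, 0, 0, 0, 0, 0],
  [1, 0, 0, 0, -1, 0, -1, 1, 1, 0, 0, 0, 0, 0, 0, 0, 0, 0, 0, 0, 0, 0, 0, 0, 0, 0, 0, 1, 0, 0, -2, 1, 0, 1, -1, 0, 0, 0, 0, 1, 0, 0, -1, 0, 0],
  [-1, 0, 0, 0, 1, 0, 0, 0, 0, 0, 0, 0, 0, 0, 0, 0, 0, 0, 0, 0, 0, 0, 0, 0, 0, 0, 0, -1, 0, 0, 1, 0, 0, 0, 0, 0, 0, 0, 0, -1, 0, 0, 1, 0, 0],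
  [-1, 0, 0, 0, 1, 0, 1, 0, -1, 0, 0, 0, 0, 0, 0, 0, 0, 0, 0, 0, 0, 0, 0, 0, 0, 0, 0, -1, 0, 0, 2, -1, 0, -1, 1, 0, 0, 0, 0, -1, 0, 0, 1, 0, 0],
  [1, 0, -1, 0, 0, 0, 0, 0, 1, 0, 0, 0, 0, 0, 0, 0, 0, 0, 0, 0, 0, 0, 0, 0, 0, 0, 0, 1, 0, 0, -1, 0, 0, 0, 0, 0, 0, 0, 0, 0, 0, 0, 0, 0, 0],
  [1, 0, 0, 0, -1, 0, 0, 0, 0, 0, 0, 0, 1, 0, -1, 0, 0, 0, 0, 0, 0, 0, 0, 0, 0, 1, 0, 1, 0, 0, -1, 0, 0, 1, -1, 0, 0, 0, 0, 1, 0, 0, -1, 0, 0],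
  [0, 0, 0, 0, 0, 0, 0, 0, 0, 0, 0, 0, 0, 0, 0, 0, 0, 0, 0, 0, 0, 0, 0, 0, 0, 0, 0, 1, 0, 0, 0, 0, 0, 0, 0, 0, 0, 0, 0, 0, 0, 0, 0, 0, 0],
  [1, 0, -1, 0, -1, 0, 0, 0, 0, 0, 0, 0, 0, 0, 0, 0, 0, 0, 0, 0, 0, 0, 0, 0, 0, 0, 0, 1, 0, 0, -1, 0, 0, 0, 0, 0, 0, 0, 0, 1, 0, 0, 0, 0, 0],
  [1, 0, 0, 0, -1, 0, -1, 0, 1, 0, 0, 0, 0, 0, 0, 0, 0, 0, 0, 0, 0, 0, 0, 0, 0, 1, 0, 1, 0, 0, -2, 1, 0, 1, -1, 0, 0, 0, 0, 1, 0, 0, -1, 0, 0],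
  [0, 0, 0, 0, 0, 0, -1, 0, 1, 0, 0, 0, 0, 0, 0, 0, 0, 0, 0, 0, 0, 0, 0, 0, 0, 0, 0, 1, 0, 0, -1, 1, 0, 0, 0, 0, 0, 0, 0, 0, 0, 0, 0, 0, 0],
  [1, 0, -1, 0, -1, 0, -1, 0, 1, 0, 0, 0, -1, 1, 1, 0, -1, 0, 0, 0, 0, 0, 0, 0, 0, 0, 0, 1, 0, 0, -2, 1, 0, 0, 0, 0, 0, 0, 0, 1, 0, 0, 0, 0, 0],
  [-1, 0, 1, 0, 1, 0, 1, 0, -1, 0, 0, 0, 1, -1, -1, 1, 1, 0, 0, 0, 0, 0, 0, 0, 0, 0, 0, -2, 0, 0, 2, -1, 0, 0, 0, 0, 0, 0, 0, -1, 0, 0, 0, 0, 0],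
  [-2, 0, 1, 0, 2, 0, 1, 0, -1, 0, 0, 0, 0, 0, 0, 0, 1, 0, 0, 0, 0, 0, 0, 0, 0, -1, 0, -2, 0, 0, 3, -1, 0, -1, 1, 0, 0, 0, 0, -2, 0, 0, 1, 0, 0],
  [-1, 0, 0, 0, 1, 0, 1, 0, -1, 0, 0, 0, 0, 0, 1, 0, 0, 0, 0, 0, 0, 0, 0, 0, 0, -1, 0, -2, 0, 0, 2, -1, 0, -1, 1, 0, 0, 0, 0, -1, 0, 0, 1, 0, 0]].getD a []).getD k 0

end CfsgLib.KnownA.E6Cubic
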