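import Cfsg.Agent.Lib.KnownA.E6Cubic.Rep

/-!
The cubic form as a list of monomials, its polarisations, and the isometries.
-/

set_option autoImplicit false
set_option maxRecDepth 20000

namespace CfsgLib.KnownA.E6Cubic

open Matrix CfsgLib.Chevalley CfsgLib.Chevalley.Natural
open Cfsg.Lie (I27)

variable {F : Type*} [Field F]

/-- A coordinate. -/
def co (v : I27 → F) (n : ℕ) : F := if h : n < 27 then v (e27 ⟨n, h⟩) else 0

/-- A basis vector. -/
def bas (F : Type*) [Field F] (n : ℕ) : I27 → F := fun p => if (e27.symm p).val = n then 1 else 0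

theorem co_ext {v w : I27 → F} (h : ∀ n < 27, co v n = co w n) : v = w := by
  funext p
  obtain ⟨a, rfl⟩ := e27.surjective p
  simpa [co] using h a.val a.2

theorem co_zero (n : ℕ) : co (0 : I27 → F) n = 0 := by simp [co]

theorem co_add (v w : I27 → F) (n : ℕ) : co (v + w) n = co v n + co w n := by
  unfold co; split <;> simp

theorem co_smul (c : F) (v : I27 → F) (n : ℕ) : co (c • v) n = c * co v n := by
  unfold co; split <;> simp

theorem co_sum {α : Type*} (S : Finset α) (f : α → I27 → F) (n : ℕ) :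
    co (∑ i ∈ S, f i) n = ∑ i ∈ S, co (f i) n := by
  unfold co; split <;> simp [Finset.sum_apply]

theorem co_bas {s : ℕ} (hs : s < 27) (n : ℕ) : co (bas F s) n = if n = s then 1 else 0 := by
  unfold co bas
  split
  · simp
  · rw [if_neg]; omega

theorem eq_sum_bas (v : I27 → F) : v = ∑ i ∈ Finset.range 27, co v i • bas F i := by
  refine co_ext fun n hn => ?_
  rw [co_sum, Finset.sum_eq_single n]
  · rw [co_smul, co_bas hn, if_pos rfl, mul_one]
  · intro i hi hne
    rw [co_smul, co_bas (Finset.mem_range.mp hi), if_neg (Ne.symm hne), mul_zero]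
  · exact fun h => absurd (Finset.mem_range.mpr hn) h

/-- The cubic form of a list of monomials. -/
def TT (L : List (ℤ × ℕ × ℕ × ℕ)) (v : I27 → F) : F :=
  (L.map fun q => (q.1 : F) * co v q.2.1 * co v q.2.2.1 * co v q.2.2.2).sum

/-- The first polarisation. -/
def BB (L : List (ℤ × ℕ × ℕ × ℕ)) (v w : I27 → F) : F :=
  (L.map fun q => (q.1 : F) * (co w q.2.1 * co v q.2.2.1 * co v q.2.2.2 +
    co v q.2.1 * co w q.2.2.1 * co v q.2.2.2 + co v q.2.1 * co v q.2.2.1 * co w q.2.2.2)).sum

/-- The trilinear form. -/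
def DD (L : List (ℤ × ℕ × ℕ × ℕ)) (u v w : I27 → F) : F :=
  (L.map fun q => (q.1 : F) * (co w q.2.1 * (co u q.2.2.1 * co v q.2.2.2 + co v q.2.2.1 * co u q.2.2.2) +
    co w q.2.2.1 * (co u q.2.1 * co v q.2.2.2 + co v q.2.1 * co u q.2.2.2) +
    co w q.2.2.2 * (co u q.2.1 * co v q.2.2.1 + co v q.2.1 * co u q.2.2.1))).sum

theorem TT_line (L : List (ℤ × ℕ × ℕ × ℕ)) (v w : I27 → F) (t : F) :
    TT L (v + t • w) = TT L v + t * BB L v w + t ^ 2 * BB L w v + t ^ 3 * TT L w := by
  induction L with
  | nil => simp [TT, BB]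
  | cons q L ih =>
    simp only [TT, BB, List.map_cons, List.sum_cons] at ih ⊢
    rw [ih]
    simp only [co_add, co_smul]
    ring

theorem DD_eq (L : List (ℤ × ℕ × ℕ × ℕ)) (u v w : I27 → F) :
    DD L u v w = BB L (u + v) w - BB L u w - BB L v w := by
  induction L with
  | nil => simp [BB, DD]
  | cons q L ih =>
    simp only [DD, BB, List.map_cons, List.sum_cons] at ih ⊢
    rw [ih]
    simp only [co_add]
    ring

theorem DD_comm (L : List (ℤ × ℕ × ℕ × ℕ)) (u v w : I27 → F) : DD L u v w = DD L u w v := by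
  induction L with
  | nil => simp [DD]
  | cons q L ih =>
    simp only [DD, List.map_cons, List.sum_cons] at ih ⊢
    rw [ih]
    ring

theorem DD_smul₁ (L : List (ℤ × ℕ × ℕ × ℕ)) (c : F) (u v w : I27 → F) : DD L (c • u) v w = c * DD L u v w := by
  induction L with
  | nil => simp [DD]
  | cons q L ih =>
    simp only [DD, List.map_cons, List.sum_cons] at ih ⊢
    rw [ih]
    simp only [co_smul]
    ring

theorem DD_smul₃ (L : List (ℤ × ℕ × ℕ × ℕ)) (c : F) (u v w : I27 → F) : DD L u v (c • w) = c * DD L u v w := by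
  induction L with
  | nil => simp [DD]
  | cons q L ih =>
    simp only [DD, List.map_cons, List.sum_cons] at ih ⊢
    rw [ih]
    simp only [co_smul]
    ring

theorem cubicT_eq (v : I27 → F) : Cfsg.Lie.cubicT v = TT tri v := by
  simp only [Cfsg.Lie.cubicT, Cfsg.Lie.mat3, Matrix.det_fin_three, Matrix.trace, Matrix.diag_apply, Matrix.mul_apply,
    Fin.sum_univ_three, Matrix.of_apply, TT, tri, List.map_cons, List.map_nil, List.sum_cons, List.sum_nil]
  simp only [co, e27, Equiv.coe_fn_mk]
  norm_num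
  simp only [show ∀ h, (⟨2, h⟩ : Fin 3) = 2 from fun _ => rfl]
  ring

/-- The terms of the first polarisation at a basis vector. -/
def qlist (b : ℕ) : List (ℤ × ℕ × ℕ) :=
  tri.flatMap fun q =>
    (bif Nat.beq q.2.1 b then [(q.1, q.2.2.1, q.2.2.2)] else []) ++
    (bif Nat.beq q.2.2.1 b then [(q.1, q.2.1, q.2.2.2)] else []) ++
    (bif Nat.beq q.2.2.2 b then [(q.1, q.2.1, q.2.2.1)] else [])

/-- The value of a list of quadratic terms. -/
def qval (L : List (ℤ × ℕ × ℕ)) (v : I27 → F) : F :=
  (L.map fun q => (q.1 : F) * (co v q.2.1 * co v q.2.2)).sum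

/-- The polarised value. -/
def qpol (L : List (ℤ × ℕ × ℕ)) (v w : I27 → F) : F :=
  (L.map fun q => (q.1 : F) * (co v q.2.1 * co w q.2.2 + co w q.2.1 * co v q.2.2)).sum

theorem sum_pick {α : Type*} (f : α → F) (x : α) {b n : ℕ} (hb : b < 27) :
    ((bif Nat.beq n b then [x] else []).map f).sum = co (bas F b) n * f x := by
  rw [co_bas hb]
  by_cases h : n = b
  · simp [h]
  · simp [h, show Nat.beq n b = false from Bool.eq_false_iff.mpr (by simpa using h)]

theorem BB_bas {b : ℕ} (hb : b < 27) (v : I27 → F) : BB tri v (bas F b) = qval (qlist b) v := by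
  unfold qlist
  generalize tri = L
  induction L with
  | nil => simp [BB, qval]
  | cons q L ih =>
    simp only [BB, qval, List.flatMap_cons, List.map_cons, List.sum_cons, List.map_append, List.sum_append,
      sum_pick _ _ hb] at ih ⊢
    rw [ih]
    ring

theorem DD_bas {s : ℕ} (hs : s < 27) (v w : I27 → F) : DD tri (bas F s) v w = qpol (qlist s) v w := by
  unfold qlist
  generalize tri = L
  induction L with
  | nil => simp [DD, qpol]
  | cons q L ih =>
    simp only [DD, qpol, List.flatMap_cons, List.map_cons, List.sum_cons, List.map_append, List.sum_append,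
      sum_pick _ _ hs] at ih ⊢
    rw [ih]
    ring

/-- The linear terms at two basis vectors. -/
def dlist (s b : ℕ) : List (ℤ × ℕ) :=
  (qlist s).flatMap fun q =>
    (bif Nat.beq q.2.1 b then [(q.1, q.2.2)] else []) ++ (bif Nat.beq q.2.2 b then [(q.1, q.2.1)] else [])

/-- The value of a list of linear terms. -/
def lval (L : List (ℤ × ℕ)) (v : I27 → F) : F := (L.map fun q => (q.1 : F) * co v q.2).sum

theorem DD_bas₂ {s b : ℕ} (hs : s < 27) (hb : b < 27) (w : I27 → F) :
    DD tri (bas F s) (bas F b) w = lval (dlist s b) w := by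
  rw [DD_bas hs, dlist]
  generalize qlist s = L
  induction L with
  | nil => simp [qpol, lval]
  | cons q L ih =>
    simp only [qpol, lval, List.flatMap_cons, List.map_cons, List.sum_cons, List.map_append, List.sum_append,
      sum_pick _ _ hb] at ih ⊢
    rw [ih]
    ring

theorem tri_distinct : (tri.all fun q => decide (q.2.1 ≠ q.2.2.1 ∧ q.2.1 ≠ q.2.2.2 ∧ q.2.2.1 ≠ q.2.2.2)) = true := by
  decide +kernel

theorem BB_bas_left {a : ℕ} (ha : a < 27) (w : I27 → F) : BB tri (bas F a) w = 0 := by
  have hd := List.all_eq_true.mp tri_distinct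
  revert hd
  generalize tri = L
  intro hd
  induction L with
  | nil => simp [BB]
  | cons q L ih =>
    simp only [BB, List.map_cons, List.sum_cons] at ih ⊢
    rw [ih (fun x hx => hd x (List.mem_cons_of_mem _ hx))]
    obtain ⟨h1, h2, h3⟩ := of_decide_eq_true (hd q (List.mem_cons_self ..))
    simp only [co_bas ha]
    by_cases e1 : q.2.1 = a
    · simp [e1, show q.2.2.1 ≠ a from fun e => h1 (e1.trans e.symm), show q.2.2.2 ≠ a from fun e => h2 (e1.trans e.symm)]
    · by_cases e2 : q.2.2.1 = a
      · simp [e1, e2, show q.2.2.2 ≠ a from fun e => h3 (e2.trans e.symm)]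
      · simp [e1, e2]

/-- The action. -/
def act (g : GL I27 F) (v : I27 → F) : I27 → F := (g : Matrix I27 I27 F) *ᵥ v

theorem act_mul (g h : GL I27 F) (v : I27 → F) : act (g * h) v = act g (act h v) := by
  simp [act, Matrix.mulVec_mulVec]

theorem act_one (v : I27 → F) : act (1 : GL I27 F) v = v := by simp [act]

theorem act_smul (g : GL I27 F) (c : F) (v : I27 → F) : act g (c • v) = c • act g v := Matrix.mulVec_smul _ _ _

theorem act_add (g : GL I27 F) (v w : I27 → F) : act g (v + w) = act g v + act g w := Matrix.mulVec_add _ _ _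

theorem act_inv_act (g : GL I27 F) (v : I27 → F) : act g (act g⁻¹ v) = v := by
  rw [← act_mul, mul_inv_cancel, act_one]

theorem act_act_inv (g : GL I27 F) (v : I27 → F) : act g⁻¹ (act g v) = v := by
  rw [← act_mul, inv_mul_cancel, act_one]

theorem co_act_sum (g : GL I27 F) (v : I27 → F) (n : ℕ) :
    co (act g v) n = ∑ i ∈ Finset.range 27, co v i * co (act g (bas F i)) n := by
  conv_lhs => rw [eq_sum_bas v]
  rw [act, Matrix.mulVec_sum, co_sum]
  exact Finset.sum_congr rfl fun i _ => by rw [Matrix.mulVec_smul, co_smul]; rfl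

theorem act_ext {g h : GL I27 F} (e : ∀ n < 27, act g (bas F n) = act h (bas F n)) : g = h := by
  refine Units.ext (Matrix.ext fun i j => ?_)
  obtain ⟨b, rfl⟩ := e27.surjective j
  have := congrFun (e b.val b.2) i
  have hb : bas F b.val = Pi.single (e27 b) 1 := by
    funext p
    obtain ⟨a, rfl⟩ := e27.surjective p
    simp [bas, Pi.single_apply, Fin.ext_iff]
  simpa [act, hb, Matrix.mulVec_single] using this

theorem mem_iff (g : GL I27 F) : g ∈ Cfsg.Lie.E6univ F ↔ ∀ v, TT tri (act g v) = TT tri v := by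
  refine ⟨fun h v => ?_, fun h v => ?_⟩
  · rw [← cubicT_eq, ← cubicT_eq]; exact h v
  · rw [cubicT_eq, cubicT_eq]; exact h v

variable (hF : ∃ c : F, c ≠ 0 ∧ c ≠ 1) {g : GL I27 F} (hg : g ∈ Cfsg.Lie.E6univ F)
include hF hg

theorem BB_inv (v w : I27 → F) : BB tri (act g v) (act g w) = BB tri v w := by
  obtain ⟨c, hc0, hc1⟩ := hF
  have h : ∀ t : F, t * BB tri (act g v) (act g w) + t ^ 2 * BB tri (act g w) (act g v) =
      t * BB tri v w + t ^ 2 * BB tri w v := by
    intro t
    have e := (mem_iff g).mp hg (v + t • w)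
    rw [act_add, act_smul, TT_line, TT_line, (mem_iff g).mp hg v, (mem_iff g).mp hg w] at e
    linear_combination e
  have hne : c * (c - 1) ≠ 0 := mul_ne_zero hc0 (sub_ne_zero.mpr hc1)
  refine mul_left_cancel₀ hne ?_
  linear_combination (c ^ 2) * h 1 - h c

theorem DD_inv (u v w : I27 → F) : DD tri (act g u) (act g v) (act g w) = DD tri u v w := by
  rw [DD_eq, DD_eq, ← act_add, BB_inv hF hg, BB_inv hF hg, BB_inv hF hg]

end CfsgLib.KnownA.E6Cubic
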