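import Cfsg.Agent.Lib.KnownA.E6Cubic.Chain
import Cfsg.Agent.Lib.Chevalley.SteinbergKernel
import Cfsg.Agent.Lib.Chevalley.Data.StCerts
import Cfsg.Agent.Lib.Chevalley.TablesCerts

/-!
The isometries of the cubic form are generated by the root elements.
-/

set_option autoImplicit false
set_option maxRecDepth 20000

namespace CfsgLib.KnownA.E6Cubic

open Matrix CfsgLib.Chevalley CfsgLib.Chevalley.Natural
open Cfsg.Lie (I27)

/-- The fundamental roots. -/
def simp6 : List ℕ := [56, 46, 42, 39, 37, 36]

/-- The diagonal idempotent of the coordinates of a given weight. -/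
def pd (i : ℕ) (v : ℤ) : List PTm :=
  ((List.range 27).filter fun a => decide (om a i = v)).map fun a => (0, 0, a, a, 1)

def chkTorus : Bool :=
  allLt (fun i =>
    let r := simp6.getD i 0
    Nat.blt r 72 &&
    pEq (pmul 27 (lin r) (lin (Data.E6.tbl.neg r))) (pd i 1) &&
    pEq (pmul 27 (lin (Data.E6.tbl.neg r)) (lin r)) (pd i (-1)) &&
    allLt (fun a => decide (om a i = 0 ∨ om a i = 1 ∨ om a i = -1)) 27) 6

theorem torus_ok : chkTorus = true := by decide +kernel

/-- The multiplicity of a coordinate in a monomial. -/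
def mult (k x : ℕ) : ℤ :=
  let q := tri.getD k (0, 0, 0, 0)
  (if x = q.2.1 then 1 else 0) + (if x = q.2.2.1 then 1 else 0) + (if x = q.2.2.2 then 1 else 0)

/-- The lattice identity. -/
def chkLattice : Bool :=
  allLt (fun a => allLt (fun x => decide ((if x = a then (1 : ℤ) else 0) =
    ((List.range 45).map fun k => rel a k * mult k x).sum +
      ((List.range 6).map fun i => om a i * pre i x).sum)) 27) 27

theorem lattice_ok : chkLattice = true := by decide +kernel

def chkTri : Bool :=
  allLt (fun k =>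
    let q := tri.getD k (0, 0, 0, 0)
    Nat.blt q.2.1 27 && Nat.blt q.2.2.1 27 && Nat.blt q.2.2.2 27 &&
      isOne (dlist q.2.1 q.2.2.1) q.2.2.2) 45

theorem triples_ok : chkTri = true := by decide +kernel

variable {F : Type*} [Field F]

theorem ev_diag (f : ℕ → Bool) {a : ℕ} (ha : a < 27) :
    (ev e27 (0 : F) 0 (((List.range 27).filter f).map fun b => (0, 0, b, b, 1))) *ᵥ bas F a =
      if f a then bas F a else 0 := by
  have hn := List.nodup_range (n := 27) |>.filter f
  have hlt : ∀ b ∈ (List.range 27).filter f, b < 27 := fun b hb => List.mem_range.mp (List.mem_filter.mp hb).1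
  have key : ∀ L : List ℕ, L.Nodup → (∀ b ∈ L, b < 27) →
      (ev e27 (0 : F) 0 (L.map fun b => (0, 0, b, b, 1))) *ᵥ bas F a = if a ∈ L then bas F a else 0 := by
    intro L
    induction L with
    | nil => simp [ev]
    | cons b L ih =>
      intro hnd hb
      rw [List.nodup_cons] at hnd
      have hb' : b < 27 := hb b (List.mem_cons_self ..)
      rw [List.map_cons, ev_cons, Matrix.add_mulVec, ih hnd.2 (fun x hx => hb x (List.mem_cons_of_mem _ hx))]
      refine co_ext fun n hn' => ?_
      have h1 : co ((evT e27 (0 : F) 0 (0, 0, b, b, 1)) *ᵥ bas F a) n = if n = b ∧ b = a then 1 else 0 := by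
        have hbas : bas F a = Pi.single (e27 ⟨a, ha⟩) 1 := by
          funext p
          obtain ⟨q, rfl⟩ := e27.surjective p
          simp [bas, Pi.single_apply, Fin.ext_iff]
        simp only [evT, unitM, hb', and_self, dite_true, pow_zero, mul_one, Int.cast_one, one_smul, hbas]
        simp [co, hn', Matrix.single_apply, Fin.ext_iff, eq_comm, Pi.single_apply, and_comm]
      rw [co_add, h1]
      by_cases hab : b = a
      · subst hab
        rw [if_neg hnd.1, if_pos (List.mem_cons_self ..), co_zero, co_bas hb', add_zero]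
        simp
      · simp [hab, Ne.symm hab]
  rw [key _ hn hlt]
  simp [ha]

theorem act_sH {i a : ℕ} (hi : i < 6) (ha : a < 27) {t : F} (ht : t ≠ 0) :
    act (hom (Data.E6.tbl.sH F (simp6.getD i 0) t)) (bas F a) = t ^ om a i • bas F a := by
  have h := allLt_iff.mp torus_ok i hi
  simp only [Bool.and_eq_true, Nat.blt_eq] at h
  obtain ⟨⟨⟨hr, hP⟩, hQ⟩, hv⟩ := h
  have eP := pEq_ev e27 (R := F) hP 0 0
  have eQ := pEq_ev e27 (R := F) hQ 0 0
  rw [ev_pmul] at eP eQ
  rw [act, hom_sH hr ht, show mX F _ * mX F _ = ev e27 (0 : F) 0 (pd i 1) from eP,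
    show mX F _ * mX F _ = ev e27 (0 : F) 0 (pd i (-1)) from eQ, Matrix.add_mulVec, Matrix.add_mulVec,
    Matrix.one_mulVec, Matrix.smul_mulVec, Matrix.smul_mulVec, pd, pd, ev_diag _ ha, ev_diag _ ha]
  have hv' := allLt_iff.mp hv a ha
  simp only [decide_eq_true_eq] at hv' ⊢
  rcases hv' with h | h | h <;> simp [h] <;> rw [sub_smul, one_smul] <;> abel

theorem act_torus (t : ℕ → F) (ht : ∀ i, t i ≠ 0) {a : ℕ} (ha : a < 27) : ∀ n ≤ 6,
    act (((List.range n).map fun i => hom (Data.E6.tbl.sH F (simp6.getD i 0) (t i))).prod) (bas F a) =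
      (∏ i ∈ Finset.range n, t i ^ om a i) • bas F a := by
  intro n hn
  induction n with
  | zero => simp [act_one]
  | succ n ih =>
    rw [List.range_succ, List.map_append, List.prod_append, List.map_singleton, List.prod_singleton, act_mul,
      act_sH (by omega) ha (ht n), act_smul, ih (by omega), smul_smul, Finset.prod_range_succ, mul_comm]

theorem range_eq (hF : ∃ c : F, c ≠ 0 ∧ c ≠ 1) : (hom (F := F)).range = Cfsg.Lie.E6univ F := by
  refine le_antisymm hom_range_le fun g hg => ?_
  obtain ⟨u, hu, hd⟩ := exists_diagonal hF hg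
  have hug : u * g ∈ Cfsg.Lie.E6univ F := mul_mem (hom_range_le hu) hg
  classical
  choose c hc0 hc using hd
  let C : ℕ → Fˣ := fun x => if hx : x < 27 then Units.mk0 (c x hx) (hc0 x hx) else 1
  have hC : ∀ x (hx : x < 27), act (u * g) (bas F x) = (C x : F) • bas F x := fun x hx => by
    simp only [C, dif_pos hx, Units.val_mk0]; exact hc x hx
  let φ : (ℕ → ℤ) → Fˣ := fun v => ∏ x ∈ Finset.range 27, C x ^ v x
  have hone : ∀ k < 45, φ (mult k) = 1 := by
    intro k hk
    have h := allLt_iff.mp triples_ok k hk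
    simp only [Bool.and_eq_true, Nat.blt_eq] at h
    obtain ⟨⟨⟨h1, h2⟩, h3⟩, h4⟩ := h
    obtain ⟨σ, hσ, hv⟩ := lval_isOne (F := F) h4
    set q := tri.getD k (0, 0, 0, 0)
    have := DD_inv hF hug (bas F q.2.1) (bas F q.2.2.1) (bas F q.2.2.2)
    rw [hC _ h1, hC _ h2, hC _ h3, DD_smul₁, DD_smul₃, DD_comm tri (bas F q.2.1) ((C q.2.2.1 : F) • _), DD_smul₃,
      DD_comm tri (bas F q.2.1) (bas F q.2.2.2), DD_bas₂ h1 h2, hv, co_bas h3, if_pos rfl, mul_one] at this
    have hσ0 : σ ≠ 0 := fun e => by simp [e] at hσ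
    have e : C q.2.1 * C q.2.2.1 * C q.2.2.2 = 1 := Units.ext (by
      push_cast
      refine mul_right_cancel₀ hσ0 ?_
      linear_combination this)
    have hm : ∀ x, C x ^ mult k x = (if x = q.2.1 then C x else 1) * (if x = q.2.2.1 then C x else 1) *
        (if x = q.2.2.2 then C x else 1) := by
      intro x
      rw [show mult k x = (if x = q.2.1 then (1 : ℤ) else 0) + (if x = q.2.2.1 then 1 else 0) +
        (if x = q.2.2.2 then 1 else 0) from rfl, _root_.zpow_add, _root_.zpow_add]
      split_ifs <;> simp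
    show ∏ x ∈ Finset.range 27, C x ^ mult k x = 1
    rw [Finset.prod_congr rfl fun x _ => hm x, Finset.prod_mul_distrib, Finset.prod_mul_distrib, Finset.prod_ite_eq',
      Finset.prod_ite_eq', Finset.prod_ite_eq', if_pos (Finset.mem_range.mpr h1), if_pos (Finset.mem_range.mpr h2),
      if_pos (Finset.mem_range.mpr h3), e]
  let t : ℕ → Fˣ := fun i => φ (pre i)
  have hsum : ∀ (x : Fˣ) (K : Finset ℕ) (f : ℕ → ℤ), x ^ (∑ k ∈ K, f k) = ∏ k ∈ K, x ^ f k := by
    intro x K f
    induction K using Finset.induction_on with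
    | empty => simp
    | insert k K hk ih => rw [Finset.sum_insert hk, Finset.prod_insert hk, _root_.zpow_add, ih]
  have hval : ∀ a < 27, (C a : F) = ∏ i ∈ Finset.range 6, (t i : F) ^ om a i := by
    intro a ha
    have e1 : C a = ∏ x ∈ Finset.range 27, C x ^ (if x = a then (1 : ℤ) else 0) := by
      rw [Finset.prod_eq_single a]
      · simp
      · intro x _ hx; simp [hx]
      · intro h; exact absurd (Finset.mem_range.mpr ha) h
    have h' : C a = ∏ i ∈ Finset.range 6, t i ^ om a i := by
      rw [e1, Finset.prod_congr rfl fun x hx => (by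
        have h := allLt_iff.mp (allLt_iff.mp lattice_ok a ha) x (Finset.mem_range.mp hx)
        simp only [decide_eq_true_eq, sum_range_map] at h
        rw [h, _root_.zpow_add, hsum, hsum] :
          C x ^ (if x = a then (1 : ℤ) else 0) = (∏ k ∈ Finset.range 45, C x ^ (rel a k * mult k x)) *
            ∏ i ∈ Finset.range 6, C x ^ (om a i * pre i x)), Finset.prod_mul_distrib]
      have z1 : ∏ x ∈ Finset.range 27, ∏ k ∈ Finset.range 45, C x ^ (rel a k * mult k x) = 1 := by
        rw [Finset.prod_comm]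
        refine Finset.prod_eq_one fun k hk => ?_
        rw [Finset.prod_congr rfl fun x _ => show C x ^ (rel a k * mult k x) = (C x ^ mult k x) ^ rel a k by
          rw [mul_comm, _root_.zpow_mul], Finset.prod_zpow,
          show (∏ x ∈ Finset.range 27, C x ^ mult k x) = φ (mult k) from rfl, hone k (Finset.mem_range.mp hk), _root_.one_zpow]
      rw [z1, one_mul, Finset.prod_comm]
      refine Finset.prod_congr rfl fun i _ => ?_
      rw [Finset.prod_congr rfl fun x _ => show C x ^ (om a i * pre i x) = (C x ^ pre i x) ^ om a i by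
        rw [mul_comm, _root_.zpow_mul], Finset.prod_zpow]
    rw [h', Units.coe_prod]
    simp
  set H := ((List.range 6).map fun i => hom (Data.E6.tbl.sH F (simp6.getD i 0) (t i : F))).prod
  have hH : H ∈ (hom (F := F)).range := list_prod_mem fun x hx => by
    obtain ⟨i, -, rfl⟩ := List.mem_map.mp hx
    exact ⟨_, rfl⟩
  have he : u * g = H := act_ext fun n hn => by
    rw [hC n hn, act_torus (fun i => (t i : F)) (fun i => (t i).ne_zero) hn 6 le_rfl, hval n hn]
  rw [show g = u⁻¹ * (u * g) by group, he]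
  exact mul_mem (inv_mem hu) hH

theorem noncomm : xG 36 (1 : F) * xG 37 1 ≠ xG 37 1 * xG 36 1 := by
  intro e
  have h := congrArg (fun g => co (act g (bas F 5)) 13) e
  simp only [act_mul, co_root (show 36 < 72 by norm_num) (1 : F) _ (show 13 < 27 by norm_num),
    co_root (show 37 < 72 by norm_num) (1 : F) _ (show 13 < 27 by norm_num),
    show rowL 36 13 = [(1, 14)] from rfl, show rowL 37 13 = [] from rfl, lval, List.map_cons, List.map_nil,
    List.sum_cons, List.sum_nil, co_root (show 37 < 72 by norm_num) (1 : F) _ (show 14 < 27 by norm_num),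
    show rowL 37 14 = [(-1, 5)] from rfl, co_bas (show 5 < 27 by norm_num)] at h
  simp at h

theorem exists_iso (hF : ∃ c : F, c ≠ 0 ∧ c ≠ 1) :
    Nonempty (Cfsg.Lie.E6 F ≃* ↥(Data.E6.tbl.datum.group F)) := by
  have hO : Tbl.StOk Data.E6.tbl := ⟨Data.E6.valid, Data.E6.chkComm, Data.E6.chkSorted, Data.E6.chkSplit⟩
  have hEq := range_eq hF
  let φ' : Data.E6.tbl.datum.SteinbergGroup F →* ↥(Cfsg.Lie.E6univ F) :=
    (hom (F := F)).codRestrict _ fun x => hEq.le ⟨x, rfl⟩
  have hsurj : Function.Surjective φ' := fun y => by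
    obtain ⟨x, hx⟩ := hEq.ge y.2
    exact ⟨x, Subtype.ext hx⟩
  let ψ : Data.E6.tbl.datum.SteinbergGroup F →* Cfsg.Lie.E6 F := (QuotientGroup.mk' _).comp φ'
  have hψ : Function.Surjective ψ := (QuotientGroup.mk'_surjective _).comp hsurj
  have hZ : Subgroup.center _ ≤ ψ.ker := by
    intro z hz
    rw [MonoidHom.mem_ker]
    refine (QuotientGroup.eq_one_iff _).mpr (Subgroup.mem_center_iff.mpr fun g => ?_)
    obtain ⟨y, rfl⟩ := hsurj g
    rw [← map_mul, ← map_mul, Subgroup.mem_center_iff.mp hz y]
  set π := Tbl.stProj (F := F) hO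
  have hπs : Function.Surjective π := Tbl.stProj_surjective hO
  have hπk : π.ker = Subgroup.center _ := Tbl.stProj_ker hO
  haveI hsimple : IsSimpleGroup ↥(Data.E6.tbl.datum.group F) :=
    (Tbl.simple_group Data.E6.valid Data.E6.chkComm (fun h => absurd h Bool.false_ne_true)
      Data.E6.chkPerfect Data.E6.chkConn).1
  have hker : ψ.ker = π.ker := by
    refine le_antisymm ?_ (hπk ▸ hZ)
    have hn : (ψ.ker.map π).Normal := Subgroup.Normal.map inferInstance π hπs
    rcases hn.eq_bot_or_eq_top with h1 | h1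
    · exact (Subgroup.map_eq_bot_iff _).mp h1
    · exfalso
      have htop : ψ.ker = ⊤ := by
        rw [eq_top_iff]
        intro x _
        obtain ⟨k, hk, hkx⟩ := h1.ge (Subgroup.mem_top (π x))
        have : k⁻¹ * x ∈ ψ.ker :=
          hZ (hπk ▸ MonoidHom.mem_ker.mpr (by rw [map_mul, map_inv, hkx, inv_mul_cancel]))
        rw [show x = k * (k⁻¹ * x) by group]
        exact mul_mem hk this
      refine noncomm (F := F) ?_
      have hx : φ' (Data.E6.tbl.sX F 36 1) ∈ Subgroup.center ↥(Cfsg.Lie.E6univ F) :=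
        (QuotientGroup.eq_one_iff _).mp (MonoidHom.mem_ker.mp (htop ▸ Subgroup.mem_top _ : _ ∈ ψ.ker))
      have h := congrArg Subtype.val (Subgroup.mem_center_iff.mp hx (φ' (Data.E6.tbl.sX F 37 1)))
      simp only [φ', Subgroup.coe_mul, MonoidHom.codRestrict_apply, hom_sX (show 36 < 72 by norm_num),
        hom_sX (show 37 < 72 by norm_num)] at h
      exact h.symm
  exact ⟨((QuotientGroup.quotientKerEquivOfSurjective ψ hψ).symm.trans
    (QuotientGroup.quotientMulEquivOfEq hker)).trans (QuotientGroup.quotientKerEquivOfSurjective π hπs)⟩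

end CfsgLib.KnownA.E6Cubic
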