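import Cfsg.Agent.Lib.KnownA.E6Cubic.RepCerts

/-!
The representation of the presented group of type E₆ on the 27 coordinates.
-/

set_option autoImplicit false
set_option maxRecDepth 20000

namespace CfsgLib.KnownA.E6Cubic

open Matrix CfsgLib.Chevalley CfsgLib.Chevalley.Natural
open Cfsg.Lie (I27)


variable {F : Type*} [Field F]

/-- The linear part of a root element. -/
def mX (F : Type*) [Field F] (r : ℕ) : Matrix I27 I27 F := ev e27 (0 : F) 0 (lin r)

theorem ev_psc {R : Type*} [CommRing R] (k : ℤ) (P : List PTm) :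
    ev e27 (0 : R) 0 (psc k P) = (k : R) • ev e27 (0 : R) 0 P := by
  induction P with
  | nil => simp [ev, psc]
  | cons p P ih =>
    rw [show psc k (p :: P) = (p.1, p.2.1, p.2.2.1, p.2.2.2.1, k * p.2.2.2.2) :: psc k P from rfl, ev_cons, ev_cons,
      ih, smul_add]
    congr 1
    simp [evT, smul_smul, mul_assoc]

theorem root_rel {r : ℕ} (hr : r < 72) :
    (∀ d ∈ ent r, d.2.1 < 27 ∧ d.2.2.1 < 27) ∧ mX F r * mX F r = 0 ∧
      mX F r * mX F (Data.E6.tbl.neg r) * mX F r = mX F r := by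
  have h := allLt_iff.mp roots_ok r hr
  simp only [chkRoot, Bool.and_eq_true, List.all_eq_true] at h
  obtain ⟨⟨h1, h2⟩, h3⟩ := h
  refine ⟨fun d hd => by simpa using h1 d hd, ?_, ?_⟩
  · have := pEq_ev e27 (R := F) (eqT_pEq h2) 0 0
    rw [ev_pmul, ev_nil] at this
    exact this
  · have := pEq_ev e27 (R := F) (eqT_pEq h3) 0 0
    rw [ev_pmul, ev_pmul] at this
    exact this

/-- The root element. -/
def xR (r : ℕ) (t : F) : Matrix I27 I27 F := 1 + t • mX F r

theorem xR_mul {r : ℕ} (hr : r < 72) (t u : F) : xR r t * xR r u = xR r (t + u) := by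
  simp only [xR, add_mul, mul_add, one_mul, mul_one, smul_mul_assoc, mul_smul_comm, (root_rel hr).2.1, smul_zero,
    add_zero, add_smul]
  abel

theorem xR_zero (r : ℕ) : xR r (0 : F) = 1 := by simp [xR]

/-- The root element, in the general linear group. -/
def xG (r : ℕ) (t : F) : GL I27 F :=
  if hr : r < 72 then
    { val := xR r t
      inv := xR r (-t)
      val_inv := by rw [xR_mul hr, add_neg_cancel, xR_zero]
      inv_val := by rw [xR_mul hr, neg_add_cancel, xR_zero] }
  else 1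

theorem xG_val {r : ℕ} (hr : r < 72) (t : F) : (xG r t : Matrix I27 I27 F) = xR r t := by
  rw [xG, dif_pos hr]

theorem xG_mul {r : ℕ} (hr : r < 72) (t u : F) : xG r t * xG r u = xG r (t + u) :=
  Units.ext (by rw [Units.val_mul, xG_val hr, xG_val hr, xG_val hr, xR_mul hr])

theorem tbl_n : Data.E6.tbl.n = 72 := rfl

theorem neg_lt {r : ℕ} (hr : r < 72) : Data.E6.tbl.neg r < 72 := Tbl.neg_lt' (T := Data.E6.tbl) hr

/-- The commutation of the linear parts. -/
def PairRel (F : Type*) [Field F] (r s : ℕ) : Prop :=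
  (Data.E6.tbl.commT r s = [] ∧ mX F s * mX F r = mX F r * mX F s) ∨
    ∃ q k, Data.E6.tbl.commT r s = [(q, k, 1, 1)] ∧
      mX F s * mX F r = mX F r * mX F s + ((-k : ℤ) : F) • mX F q ∧ mX F r * mX F q = 0 ∧ mX F s * mX F q = 0

theorem pair_rel_lt {r s : ℕ} (hr : r < 72) (hs : s < 72) (hlt : r < s) (hneg : s ≠ Data.E6.tbl.neg r) :
    PairRel F r s ∧ PairRel F s r := by
  have h := pair_ok hr hs
  have hrs : s ≠ r := hlt.ne'
  simp only [chkPair, Bool.or_eq_true, Nat.beq_eq, hrs, hneg, false_or,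
    show Nat.blt r s = true from Nat.blt_eq.mpr hlt, cond_true] at h
  split at h
  · rename_i hL
    simp only [Bool.and_eq_true, List.isEmpty_iff] at h
    have e1 : mX F s * mX F r = mX F r * mX F s := by
      have := pEq_ev e27 (R := F) (eqT_pEq h.2) 0 0
      rw [ev_pmul, ev_pmul] at this
      exact this
    exact ⟨Or.inl ⟨hL, e1⟩, Or.inl ⟨h.1, e1.symm⟩⟩
  · rename_i q k hL
    simp only [Bool.and_eq_true, decide_eq_true_eq] at h
    obtain ⟨⟨⟨hL', h1⟩, h2⟩, h3⟩ := h
    have e1 : mX F s * mX F r = mX F r * mX F s + ((-k : ℤ) : F) • mX F q := by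
      have := pEq_ev e27 (R := F) (eqT_pEq h1) 0 0
      rw [ev_pmul, ev_append, ev_pmul, ev_psc] at this
      exact this
    have e2 : mX F r * mX F q = 0 := by
      have := pEq_ev e27 (R := F) (eqT_pEq h2) 0 0
      rw [ev_pmul, ev_nil] at this
      exact this
    have e3 : mX F s * mX F q = 0 := by
      have := pEq_ev e27 (R := F) (eqT_pEq h3) 0 0
      rw [ev_pmul, ev_nil] at this
      exact this
    refine ⟨Or.inr ⟨q, k, hL, e1, e2, e3⟩, Or.inr ⟨q, -k, hL', ?_, e3, e2⟩⟩
    rw [e1, add_assoc, ← add_smul, ← Int.cast_add, show (-k + -(-k) : ℤ) = 0 by omega, Int.cast_zero, zero_smul,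
      add_zero]
  · simp at h

theorem pair_rel {r s : ℕ} (hr : r < 72) (hs : s < 72) (hrs : s ≠ r) (hneg : s ≠ Data.E6.tbl.neg r) :
    PairRel F r s := by
  rcases Nat.lt_or_gt_of_ne hrs with h | h
  · refine (pair_rel_lt hs hr h fun e => hneg ?_).2
    have hnn : Data.E6.tbl.neg (Data.E6.tbl.neg s) = s := by simpa using allLt_iff.mp neg_neg_ok s hs
    rw [e, hnn]
  · exact (pair_rel_lt hr hs h hneg).1

theorem xG_comm {r s : ℕ} (hr : r < 72) (hs : s < 72) (hrs : s ≠ r) (hneg : s ≠ Data.E6.tbl.neg r) (t u : F) :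
    xG s u * xG r t = xG r t * xG s u *
      ((Data.E6.tbl.commT r s).map fun c => xG c.1 ((c.2.1 : F) * (-t) ^ c.2.2.1 * u ^ c.2.2.2)).prod := by
  have hlt : ∀ c ∈ Data.E6.tbl.commT r s, c.1 < 72 := Tbl.commT_lt Data.E6.valid (r := r) (s := s) hr hs
  rcases pair_rel (F := F) hr hs hrs hneg with ⟨hL, e1⟩ | ⟨q, k, hL, e1, e2, e3⟩
  · refine Units.ext ?_
    simp only [hL, List.map_nil, List.prod_nil, mul_one, Units.val_mul, xG_val hr, xG_val hs]
    simp only [xR, add_mul, mul_add, one_mul, mul_one, smul_mul_assoc, mul_smul_comm, e1]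
    module
  · refine Units.ext ?_
    have hq : q < 72 := hlt _ (by rw [hL]; exact List.mem_singleton_self _)
    simp only [hL, List.map_cons, List.map_nil, List.prod_cons, List.prod_nil, mul_one, Units.val_mul, xG_val hr,
      xG_val hs, xG_val hq, pow_one]
    simp only [xR, add_mul, mul_add, one_mul, mul_one, smul_mul_assoc, mul_smul_comm, e1, e2, e3, mul_assoc,
      smul_smul, smul_add, smul_zero, mul_zero, add_zero]
    push_cast
    module

/-- The torus element, in idempotents. -/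
theorem xG_tor {r : ℕ} (hr : r < 72) {t : F} (ht : t ≠ 0) :
    ((xG r t * xG (Data.E6.tbl.neg r) (-t⁻¹) * xG r t *
        (xG r (-1) * xG (Data.E6.tbl.neg r) 1 * xG r (-1)) : GL I27 F) : Matrix I27 I27 F) =
      1 + (t - 1) • (mX F r * mX F (Data.E6.tbl.neg r)) + (t⁻¹ - 1) • (mX F (Data.E6.tbl.neg r) * mX F r) := by
  obtain ⟨-, hR, hRNR⟩ := root_rel (F := F) hr
  obtain ⟨-, hN, hNRN⟩ := root_rel (F := F) (neg_lt hr)
  have hnn : Data.E6.tbl.neg (Data.E6.tbl.neg r) = r := by simpa using allLt_iff.mp neg_neg_ok r hr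
  rw [hnn] at hNRN
  simp only [Units.val_mul, xG_val hr, xG_val (neg_lt hr), xR]
  revert hR hRNR hN hNRN
  generalize mX F r = R
  generalize mX F (Data.E6.tbl.neg r) = N
  intro hR hRNR hN hNRN
  have nval : ∀ c : F, c ≠ 0 → (1 + c • R) * (1 + (-c⁻¹) • N) * (1 + c • R) =
      1 - R * N - N * R + c • R - c⁻¹ • N := by
    intro c hc
    simp only [add_mul, mul_add, one_mul, mul_one, smul_mul_assoc, mul_smul_comm, smul_smul, smul_add, hR, hRNR,
      smul_zero, add_zero]
    match_scalars <;> field_simp <;> ring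
  have h1 := nval (-1) (by simp)
  rw [show -(-1 : F)⁻¹ = 1 by norm_num] at h1
  rw [nval t ht, h1]
  have a1 : R * N * R = R := hRNR
  have a2 : N * R * N = N := hNRN
  have a3 : ∀ Z, R * (N * (R * Z)) = R * Z := fun Z => by rw [← mul_assoc, ← mul_assoc, a1]
  have a4 : ∀ Z, N * (R * (N * Z)) = N * Z := fun Z => by rw [← mul_assoc, ← mul_assoc, a2]
  have a5 : ∀ Z, R * (R * Z) = 0 := fun Z => by rw [← mul_assoc, hR, zero_mul]
  have a6 : ∀ Z, N * (N * Z) = 0 := fun Z => by rw [← mul_assoc, hN, zero_mul]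
  have a7 : R * (N * R) = R := by rw [← mul_assoc, a1]
  have a8 : N * (R * N) = N := by rw [← mul_assoc, a2]
  simp only [sub_eq_add_neg, add_mul, mul_add, neg_mul, mul_neg, neg_neg, one_mul, mul_one, smul_mul_assoc,
    mul_smul_comm, smul_smul, smul_add, smul_neg, mul_assoc, hR, hN, a3, a4, a5, a6, a7, a8, mul_zero, smul_zero,
    neg_zero, add_zero, inv_neg, inv_one]
  module

theorem idem {r : ℕ} (hr : r < 72) :
    let P := mX F r * mX F (Data.E6.tbl.neg r)
    let Q := mX F (Data.E6.tbl.neg r) * mX F r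
    P * P = P ∧ Q * Q = Q ∧ P * Q = 0 ∧ Q * P = 0 := by
  intro P Q
  obtain ⟨-, hR, hRNR⟩ := root_rel (F := F) hr
  obtain ⟨-, hN, hNRN⟩ := root_rel (F := F) (neg_lt hr)
  rw [show Data.E6.tbl.neg (Data.E6.tbl.neg r) = r by simpa using allLt_iff.mp neg_neg_ok r hr] at hNRN
  refine ⟨?_, ?_, ?_, ?_⟩
  · simp only [P]; rw [← mul_assoc, hRNR]
  · simp only [Q]; rw [← mul_assoc, hNRN]
  · simp only [P, Q]; rw [mul_assoc, ← mul_assoc (mX F (Data.E6.tbl.neg r)) _ (mX F r), hN, zero_mul, mul_zero]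
  · simp only [P, Q]; rw [mul_assoc, ← mul_assoc (mX F r) (mX F r), hR, zero_mul, mul_zero]

/-- The homomorphism from the presented group. -/
noncomputable def hom : Data.E6.tbl.datum.SteinbergGroup F →* GL I27 F :=
  PresentedGroup.toGroup (f := fun p : Fin Data.E6.tbl.datum.nroots × F => xG p.1.val p.2) (by
    have hX : ∀ r < 72, ∀ t : F,
        FreeGroup.lift (fun p : Fin Data.E6.tbl.datum.nroots × F => xG p.1.val p.2) (Data.E6.tbl.datum.stX r t) = xG r t := by
      intro r hr t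
      rw [Cfsg.Lie.ChevalleyDatum.stX, dif_pos (show r < Data.E6.tbl.datum.nroots from hr), FreeGroup.lift_apply_of]
    have hW : ∀ w : List (ℕ × F), (∀ p ∈ w, p.1 < 72) →
        FreeGroup.lift (fun p : Fin Data.E6.tbl.datum.nroots × F => xG p.1.val p.2) (Data.E6.tbl.datum.stWord w) =
          (w.map fun p => xG p.1 p.2).prod := by
      intro w hw
      rw [Cfsg.Lie.ChevalleyDatum.stWord, map_list_prod, List.map_map]
      exact congrArg List.prod (List.map_congr_left fun p hp => hX p.1 (hw p hp) p.2)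
    rintro g ((⟨r, t₁, t₂, hr, rfl⟩ | ⟨r, s, t, u, hr, hs, hrs, hneg, rfl⟩) |
      ⟨r, t₁, t₂, hr, h₁, h₂, rfl⟩)
    · have hr' : r < 72 := hr
      simp only [map_mul, map_inv, hX r hr', xG_mul hr', mul_inv_cancel]
    · have hr' : r < 72 := hr
      have hs' : s < 72 := hs
      rw [Tbl.datum_neg (T := Data.E6.tbl) hr'] at hneg
      simp only [map_mul, map_inv, hX r hr', hX s hs']
      rw [hW _ (by
        intro p hp
        simp only [Cfsg.Lie.ChevalleyDatum.commWord, Tbl.datum_commTerms Data.E6.valid (r := r) (s := s) hr' hs',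
          List.mem_map] at hp
        obtain ⟨c, hc, rfl⟩ := hp
        exact Tbl.commT_lt Data.E6.valid (r := r) (s := s) hr' hs' c hc)]
      simp only [Cfsg.Lie.ChevalleyDatum.commWord, Tbl.datum_commTerms Data.E6.valid (r := r) (s := s) hr' hs',
        List.map_map, Function.comp_def]
      rw [mul_assoc _ (xG s u) (xG r t), xG_comm hr' hs' hrs hneg t u]
      group
    · have hr' : r < 72 := hr
      have hh : ∀ c : F, FreeGroup.lift (fun p : Fin Data.E6.tbl.datum.nroots × F => xG p.1.val p.2)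
          (Data.E6.tbl.datum.stH r c) = xG r c * xG (Data.E6.tbl.neg r) (-c⁻¹) * xG r c *
            (xG r (-1) * xG (Data.E6.tbl.neg r) 1 * xG r (-1)) := by
        intro c
        rw [Cfsg.Lie.ChevalleyDatum.stH, hW]
        · simp [Cfsg.Lie.ChevalleyDatum.hWord, Cfsg.Lie.ChevalleyDatum.nWord, Tbl.datum_neg (T := Data.E6.tbl) hr', mul_assoc]
        · have := neg_lt hr'
          simp [Cfsg.Lie.ChevalleyDatum.hWord, Cfsg.Lie.ChevalleyDatum.nWord, Tbl.datum_neg (T := Data.E6.tbl) hr', hr', this]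
      simp only [map_mul, map_inv, hh]
      rw [mul_inv_eq_one]
      refine Units.ext ?_
      rw [Units.val_mul, xG_tor hr' h₁, xG_tor hr' h₂, xG_tor hr' (mul_ne_zero h₁ h₂)]
      obtain ⟨i1, i2, i3, i4⟩ := idem (F := F) hr'
      revert i1 i2 i3 i4
      generalize mX F r * mX F (Data.E6.tbl.neg r) = P
      generalize mX F (Data.E6.tbl.neg r) * mX F r = Q
      intro i1 i2 i3 i4
      simp only [add_mul, mul_add, one_mul, mul_one, smul_mul_assoc, mul_smul_comm, smul_smul, smul_add, i1, i2, i3,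
        i4, smul_zero, add_zero, zero_add, mul_inv]
      module)

theorem hom_sX {r : ℕ} (hr : r < 72) (t : F) : hom (Data.E6.tbl.sX F r t) = xG r t := by
  rw [Tbl.sX, Cfsg.Lie.ChevalleyDatum.stGen, Cfsg.Lie.ChevalleyDatum.stX,
    dif_pos (show r < Data.E6.tbl.datum.nroots from hr)]
  exact PresentedGroup.toGroup.of _

/-- The group generated by the root elements. -/
theorem hom_range : (hom (F := F)).range = Subgroup.closure {g | ∃ r < 72, ∃ t : F, g = xG r t} := by
  refine le_antisymm ?_ ((Subgroup.closure_le _).mpr ?_)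
  · rw [MonoidHom.range_eq_map, ← PresentedGroup.closure_range_of (Data.E6.tbl.datum.steinbergRels F),
      MonoidHom.map_closure, Subgroup.closure_le]
    rintro _ ⟨_, ⟨⟨r, t⟩, rfl⟩, rfl⟩
    exact Subgroup.subset_closure ⟨r.val, r.2, t, PresentedGroup.toGroup.of _⟩
  · rintro _ ⟨r, hr, t, rfl⟩
    exact ⟨_, hom_sX hr t⟩

theorem hom_sH {r : ℕ} (hr : r < 72) {t : F} (ht : t ≠ 0) :
    (hom (Data.E6.tbl.sH F r t) : Matrix I27 I27 F) =
      1 + (t - 1) • (mX F r * mX F (Data.E6.tbl.neg r)) + (t⁻¹ - 1) • (mX F (Data.E6.tbl.neg r) * mX F r) := by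
  rw [← xG_tor hr ht]
  simp only [Tbl.sH, Tbl.sN, map_mul, hom_sX hr, hom_sX (neg_lt hr), inv_neg, inv_one, neg_neg]

end CfsgLib.KnownA.E6Cubic
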