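import Cfsg.Agent.Lib.KnownA.E6Cubic.Data
import Cfsg.Prelude.Def_E6

/-!
The checks of the relations of the 27-dimensional representation.
-/

set_option autoImplicit false
set_option maxRecDepth 20000
set_option Elab.async false

namespace CfsgLib.KnownA.E6Cubic

open CfsgLib.Chevalley CfsgLib.Chevalley.Natural
open Cfsg.Lie (I27)

/-- The coordinates. -/
def e27 : Fin 27 ≃ I27 where
  toFun a := (⟨a.val / 9, by omega⟩, ⟨a.val / 3 % 3, by omega⟩, ⟨a.val % 3, by omega⟩)
  invFun p := ⟨p.1.val * 9 + p.2.1.val * 3 + p.2.2.val, by omega⟩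
  left_inv := by decide
  right_inv := by decide

/-- The linear part of a root element, as terms. -/
def lin (r : ℕ) : List PTm := (ent r).map fun d => (0, 0, d.2.1, d.2.2.1, d.2.2.2)

/-- A multiple. -/
def psc (k : ℤ) (P : List PTm) : List PTm :=
  P.map fun p => (p.1, p.2.1, p.2.2.1, p.2.2.2.1, k * p.2.2.2.2)

/-- Equality of the key of two terms, decided coordinate by coordinate. -/
def keyB (p q : PTm) : Bool :=
  Nat.beq p.2.2.1 q.2.2.1 && Nat.beq p.2.2.2.1 q.2.2.2.1 && Nat.beq p.1 q.1 && Nat.beq p.2.1 q.2.1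

/-- A fast form of the equality test. -/
def eqT (P Q : List PTm) : Bool :=
  let L := P ++ pneg Q
  L.all fun p => ((L.filter (keyB p)).map fun q => q.2.2.2.2).sum == 0

theorem eqT_pEq {P Q : List PTm} (h : eqT P Q = true) : pEq P Q = true := by
  unfold pEq keyZero
  simp only [eqT, List.all_eq_true] at h ⊢
  intro p hp
  have hf : ((P ++ pneg Q).filter fun q => decide (keyFull q = keyFull p)) = (P ++ pneg Q).filter (keyB p) :=
    List.filter_congr fun q _ => by
      rw [Bool.eq_iff_iff]
      obtain ⟨i, j, a, b, c⟩ := p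
      obtain ⟨i', j', a', b', c'⟩ := q
      simp only [keyB, keyFull, decide_eq_true_eq, Bool.and_eq_true, Nat.beq_eq, Prod.mk.injEq]
      exact ⟨fun ⟨h1, h2, h3, h4⟩ => ⟨⟨⟨h3.symm, h4.symm⟩, h1.symm⟩, h2.symm⟩,
        fun ⟨⟨⟨h1, h2⟩, h3⟩, h4⟩ => ⟨h3.symm, h4.symm, h1.symm, h2.symm⟩⟩
  rw [hf]
  simpa using h p hp

/-- The products needed for the relations of one root. -/
def chkRoot (r : ℕ) : Bool :=
  (ent r).all (fun d => Nat.blt d.2.1 27 && Nat.blt d.2.2.1 27) &&
  eqT (pmul 27 (lin r) (lin r)) [] &&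
  eqT (pmul 27 (pmul 27 (lin r) (lin (Data.E6.tbl.neg r))) (lin r)) (lin r)

/-- The products needed for a commutation. -/
def chkPair (r s : ℕ) : Bool :=
  Nat.beq s r || Nat.beq s (Data.E6.tbl.neg r) ||
  bif Nat.blt r s then
    match Data.E6.tbl.commT r s with
    | [] => (Data.E6.tbl.commT s r).isEmpty && eqT (pmul 27 (lin s) (lin r)) (pmul 27 (lin r) (lin s))
    | [(q, k, 1, 1)] =>
      decide (Data.E6.tbl.commT s r = [(q, -k, 1, 1)]) &&
      eqT (pmul 27 (lin s) (lin r)) (pmul 27 (lin r) (lin s) ++ psc (-k) (lin q)) &&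
        eqT (pmul 27 (lin r) (lin q)) [] && eqT (pmul 27 (lin s) (lin q)) []
    | _ => false
  else true

theorem roots_ok : allLt chkRoot 72 = true := by decide +kernel
theorem neg_neg_ok : allLt (fun r => Nat.beq (Data.E6.tbl.neg (Data.E6.tbl.neg r)) r) 72 = true := by decide +kernel

/-- The relations of a block of roots. -/
def chkBlock (i : ℕ) : Bool := allLt (fun j => allLt (chkPair (8 * i + j)) 72) 8

theorem block0 : chkBlock 0 = true := by decide +kernel
theorem block1 : chkBlock 1 = true := by decide +kernel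
theorem block2 : chkBlock 2 = true := by decide +kernel
theorem block3 : chkBlock 3 = true := by decide +kernel
theorem block4 : chkBlock 4 = true := by decide +kernel
theorem block5 : chkBlock 5 = true := by decide +kernel
theorem block6 : chkBlock 6 = true := by decide +kernel
theorem block7 : chkBlock 7 = true := by decide +kernel
theorem block8 : chkBlock 8 = true := by decide +kernel

theorem pair_ok {r s : ℕ} (hr : r < 72) (hs : s < 72) : chkPair r s = true := by
  have h : chkBlock (r / 8) = true := by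
    obtain h | h | h | h | h | h | h | h | h : r / 8 = 0 ∨ r / 8 = 1 ∨ r / 8 = 2 ∨ r / 8 = 3 ∨ r / 8 = 4 ∨
        r / 8 = 5 ∨ r / 8 = 6 ∨ r / 8 = 7 ∨ r / 8 = 8 := by omega
    all_goals rw [h]
    exacts [block0, block1, block2, block3, block4, block5, block6, block7, block8]
  have h2 := allLt_iff.mp (allLt_iff.mp h (r % 8) (Nat.mod_lt _ (by norm_num))) s hs
  rwa [Nat.div_add_mod] at h2

end CfsgLib.KnownA.E6Cubic
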