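import Cfsg.Agent.Lib.KnownA.E6Cubic.Form

/-!
The root elements preserve the cubic form.
-/

set_option autoImplicit false
set_option maxRecDepth 20000

namespace CfsgLib.KnownA.E6Cubic

open Matrix CfsgLib.Chevalley CfsgLib.Chevalley.Natural
open Cfsg.Lie (I27)

variable {F : Type*} [Field F]

/-- The entries in one row. -/
def rowL (r y : ℕ) : List (ℤ × ℕ) :=
  (ent r).flatMap fun d => bif Nat.beq d.2.1 y then [(d.2.2.2, d.2.2.1)] else []

theorem co_root {r : ℕ} (hr : r < 72) (t : F) (v : I27 → F) {y : ℕ} (hy : y < 27) :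
    co (act (xG r t) v) y = co v y + t * lval (rowL r y) v := by
  rw [act, xG_val hr, xR, Matrix.add_mulVec, Matrix.one_mulVec, Matrix.smul_mulVec, co_add, co_smul]
  congr 2
  have hb := (root_rel (F := F) hr).1
  unfold mX lin rowL
  revert hb
  generalize ent r = L
  intro hb
  induction L with
  | nil => simp [ev, lval, co_zero]
  | cons d L ih =>
    obtain ⟨h1, h2⟩ := hb d (List.mem_cons_self ..)
    rw [List.map_cons, ev_cons, Matrix.add_mulVec, co_add, ih (fun x hx => hb x (List.mem_cons_of_mem _ hx)),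
      List.flatMap_cons]
    simp only [lval, List.map_append, List.sum_append]
    congr 1
    simp only [evT, unitM, h1, h2, and_self, dite_true, pow_zero, mul_one, Matrix.smul_mulVec, co_smul]
    by_cases h : d.2.1 = y
    · subst h
      simp [co, h1, h2, Matrix.mulVec, dotProduct, Matrix.single_apply]
    · simp [co, hy, h1, h2, show Nat.beq d.2.1 y = false from Bool.eq_false_iff.mpr (by simpa using h),
        Matrix.mulVec, dotProduct, Matrix.single_apply, Fin.ext_iff, h]

/-- Three indices in increasing order. -/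
def sort3 (x y z : ℕ) : ℕ × ℕ × ℕ :=
  bif Nat.ble x y then (bif Nat.ble y z then (x, y, z) else bif Nat.ble x z then (x, z, y) else (z, x, y))
  else (bif Nat.ble x z then (y, x, z) else bif Nat.ble y z then (y, z, x) else (z, y, x))

/-- The products of three linear expansions. -/
def cross (σ : ℤ) (k : ℕ) (A B C : List (ℤ × ℕ)) : List (ℤ × ℕ × ℕ × ℕ × ℕ) :=
  A.flatMap fun a => B.flatMap fun b => C.map fun c => (σ * a.1 * b.1 * c.1, k, sort3 a.2 b.2 c.2)

/-- The increase of the form along a root element. -/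
def delta (r : ℕ) : List (ℤ × ℕ × ℕ × ℕ × ℕ) :=
  tri.flatMap fun q =>
    cross q.1 1 (rowL r q.2.1) [(1, q.2.2.1)] [(1, q.2.2.2)] ++
    cross q.1 1 [(1, q.2.1)] (rowL r q.2.2.1) [(1, q.2.2.2)] ++
    cross q.1 1 [(1, q.2.1)] [(1, q.2.2.1)] (rowL r q.2.2.2) ++
    cross q.1 2 (rowL r q.2.1) (rowL r q.2.2.1) [(1, q.2.2.2)] ++
    cross q.1 2 (rowL r q.2.1) [(1, q.2.2.1)] (rowL r q.2.2.2) ++
    cross q.1 2 [(1, q.2.1)] (rowL r q.2.2.1) (rowL r q.2.2.2) ++
    cross q.1 3 (rowL r q.2.1) (rowL r q.2.2.1) (rowL r q.2.2.2)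

/-- The value of an item. -/
def kval (t : F) (v : I27 → F) (k : ℕ × ℕ × ℕ × ℕ) : F := t ^ k.1 * (co v k.2.1 * co v k.2.2.1 * co v k.2.2.2)

/-- The value of a list of items. -/
def ival (t : F) (v : I27 → F) (L : List (ℤ × ℕ × ℕ × ℕ × ℕ)) : F :=
  (L.map fun p => (p.1 : F) * kval t v p.2).sum

theorem ival_append (t : F) (v : I27 → F) (L M : List (ℤ × ℕ × ℕ × ℕ × ℕ)) :
    ival t v (L ++ M) = ival t v L + ival t v M := by
  simp [ival]

theorem kval_sort3 (t : F) (v : I27 → F) (k x y z : ℕ) :
    kval t v (k, sort3 x y z) = t ^ k * (co v x * co v y * co v z) := by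
  unfold sort3
  cases Nat.ble x y <;> cases Nat.ble y z <;> cases Nat.ble x z <;> simp only [cond_true, cond_false, kval] <;> ring

theorem ival_cross (t : F) (v : I27 → F) (σ : ℤ) (k : ℕ) (A B C : List (ℤ × ℕ)) :
    ival t v (cross σ k A B C) = (σ : F) * t ^ k * (lval A v * lval B v * lval C v) := by
  induction A with
  | nil => simp [ival, cross, lval]
  | cons a A ih =>
    rw [show cross σ k (a :: A) B C = (B.flatMap fun b => C.map fun c =>
      (σ * a.1 * b.1 * c.1, k, sort3 a.2 b.2 c.2)) ++ cross σ k A B C from rfl, ival_append, ih]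
    have hB : ival t v (B.flatMap fun b => C.map fun c => (σ * a.1 * b.1 * c.1, k, sort3 a.2 b.2 c.2)) =
        (σ : F) * t ^ k * ((a.1 : F) * co v a.2 * lval B v * lval C v) := by
      clear ih
      induction B with
      | nil => simp [ival, lval]
      | cons b B ihB =>
        rw [List.flatMap_cons, ival_append, ihB]
        have hC : ival t v (C.map fun c => (σ * a.1 * b.1 * c.1, k, sort3 a.2 b.2 c.2)) =
            (σ : F) * t ^ k * ((a.1 : F) * co v a.2 * ((b.1 : F) * co v b.2) * lval C v) := by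
          clear ihB
          induction C with
          | nil => simp [ival, lval]
          | cons c C ihC =>
            simp only [ival, lval, List.map_cons, List.sum_cons] at ihC ⊢
            rw [ihC, kval_sort3]
            push_cast
            ring
        rw [hC]
        simp only [lval, List.map_cons, List.sum_cons]
        ring
    rw [hB]
    simp only [lval, List.map_cons, List.sum_cons]
    ring

/-- The coefficients of every key sum to zero. -/
def keyed (L : List (ℤ × ℕ × ℕ × ℕ × ℕ)) : Bool :=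
  L.all fun p => decide (((L.filter fun q => decide (q.2 = p.2)).map Prod.fst).sum = 0)

theorem keyed_zero (t : F) (v : I27 → F) (L : List (ℤ × ℕ × ℕ × ℕ × ℕ)) (h : keyed L = true) : ival t v L = 0 := by
  have h' : ∀ k : ℕ × ℕ × ℕ × ℕ, ((L.filter fun q => decide (q.2 = k)).map Prod.fst).sum = 0 := by
    intro k
    by_cases hk : ∃ p ∈ L, p.2 = k
    · obtain ⟨p, hp, rfl⟩ := hk
      exact of_decide_eq_true (List.all_eq_true.mp h p hp)
    · rw [List.filter_eq_nil_iff.mpr]
      · simp
      · intro q hq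
        simpa using fun e => hk ⟨q, hq, e⟩
  clear h
  induction hl : L.length using Nat.strong_induction_on generalizing L with
  | _ k ih =>
    cases L with
    | nil => rfl
    | cons p P =>
      rw [ival, sum_map_split _ (fun q : ℤ × ℕ × ℕ × ℕ × ℕ => decide (q.2 = p.2))]
      have e1 : ∀ M : List (ℤ × ℕ × ℕ × ℕ × ℕ), (∀ q ∈ M, q.2 = p.2) →
          (M.map fun q => (q.1 : F) * kval t v q.2).sum = (((M.map Prod.fst).sum : ℤ) : F) * kval t v p.2 := by
        intro M
        induction M with
        | nil => simp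
        | cons q M ihM =>
          intro hq
          rw [List.map_cons, List.sum_cons, ihM (fun x hx => hq x (List.mem_cons_of_mem _ hx)),
            hq q (List.mem_cons_self ..), List.map_cons, List.sum_cons, Int.cast_add, add_mul]
      rw [e1 _ (fun q hq => by simpa using (List.mem_filter.mp hq).2), h' p.2, Int.cast_zero, zero_mul, zero_add]
      refine ih ((p :: P).filter fun q => !decide (q.2 = p.2)).length ?_ _ ?_ rfl
      · rw [← hl, List.filter_cons_of_neg (by simp), List.length_cons]
        exact Nat.lt_succ_of_le (List.length_filter_le _ _)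
      · intro k'
        by_cases hk' : k' = p.2
        · rw [List.filter_filter, List.filter_eq_nil_iff.mpr]
          · simp
          · intro q _
            simp [hk']
        · rw [List.filter_filter]
          convert h' k' using 3
          refine List.filter_congr fun q _ => ?_
          by_cases hq : q.2 = k' <;> simp [hq, hk']

/-- Equality of keys, decided coordinate by coordinate. -/
def keyK (p q : ℕ × ℕ × ℕ × ℕ) : Bool :=
  Nat.beq p.2.1 q.2.1 && Nat.beq p.2.2.1 q.2.2.1 && Nat.beq p.2.2.2 q.2.2.2 && Nat.beq p.1 q.1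

/-- A fast form of the test. -/
def keyedB (L : List (ℤ × ℕ × ℕ × ℕ × ℕ)) : Bool :=
  L.all fun p => ((L.filter fun q => keyK p.2 q.2).map Prod.fst).sum == 0

theorem keyedB_keyed {L : List (ℤ × ℕ × ℕ × ℕ × ℕ)} (h : keyedB L = true) : keyed L = true := by
  simp only [keyed, keyedB, List.all_eq_true, decide_eq_true_eq, beq_iff_eq] at h ⊢
  intro p hp
  rw [← h p hp]
  congr 2
  refine List.filter_congr fun q _ => ?_
  rw [Bool.eq_iff_iff]
  obtain ⟨c, k, x, y, z⟩ := p
  obtain ⟨c', k', x', y', z'⟩ := q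
  simp only [keyK, decide_eq_true_eq, Bool.and_eq_true, Nat.beq_eq, Prod.mk.injEq]
  exact ⟨fun ⟨h1, h2, h3, h4⟩ => ⟨⟨⟨h2.symm, h3.symm⟩, h4.symm⟩, h1.symm⟩,
    fun ⟨⟨⟨h2, h3⟩, h4⟩, h1⟩ => ⟨h1.symm, h2.symm, h3.symm, h4.symm⟩⟩

theorem delta_ok : allLt (fun r => keyedB (delta r)) 72 = true := by decide +kernel

theorem tri_lt : (tri.all fun q => Nat.blt q.2.1 27 && Nat.blt q.2.2.1 27 && Nat.blt q.2.2.2 27) = true := by
  decide +kernel

theorem xG_mem {r : ℕ} (hr : r < 72) (t : F) : xG r t ∈ Cfsg.Lie.E6univ F := by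
  rw [mem_iff]
  intro v
  have hz := keyed_zero t v _ (keyedB_keyed (allLt_iff.mp delta_ok r hr))
  have hlt := List.all_eq_true.mp tri_lt
  suffices key : ∀ L : List (ℤ × ℕ × ℕ × ℕ), (∀ q ∈ L, q ∈ tri) →
      TT L (act (xG r t) v) = TT L v + ival t v (L.flatMap fun q =>
        cross q.1 1 (rowL r q.2.1) [(1, q.2.2.1)] [(1, q.2.2.2)] ++
        cross q.1 1 [(1, q.2.1)] (rowL r q.2.2.1) [(1, q.2.2.2)] ++
        cross q.1 1 [(1, q.2.1)] [(1, q.2.2.1)] (rowL r q.2.2.2) ++
        cross q.1 2 (rowL r q.2.1) (rowL r q.2.2.1) [(1, q.2.2.2)] ++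
        cross q.1 2 (rowL r q.2.1) [(1, q.2.2.1)] (rowL r q.2.2.2) ++
        cross q.1 2 [(1, q.2.1)] (rowL r q.2.2.1) (rowL r q.2.2.2) ++
        cross q.1 3 (rowL r q.2.1) (rowL r q.2.2.1) (rowL r q.2.2.2)) by
    have := key tri (fun q hq => hq)
    rw [show (tri.flatMap fun q => _) = delta r from rfl, hz, add_zero] at this
    exact this
  intro L hL
  induction L with
  | nil => simp [TT, ival]
  | cons q L ih =>
    have hq := hlt q (hL q (List.mem_cons_self ..))
    simp only [Bool.and_eq_true, Nat.blt_eq] at hq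
    obtain ⟨⟨ha, hb⟩, hc⟩ := hq
    have := ih fun x hx => hL x (List.mem_cons_of_mem _ hx)
    simp only [TT, List.map_cons, List.sum_cons, List.flatMap_cons, ival_append, ival_cross] at this ⊢
    rw [this, co_root hr t v ha, co_root hr t v hb, co_root hr t v hc]
    simp only [lval, List.map_cons, List.map_nil, List.sum_cons, List.sum_nil, Int.cast_one, one_mul, add_zero]
    ring

theorem hom_range_le : (hom (F := F)).range ≤ Cfsg.Lie.E6univ F := by
  rw [hom_range, Subgroup.closure_le]
  rintro _ ⟨r, hr, t, rfl⟩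
  exact xG_mem hr t

end CfsgLib.KnownA.E6Cubic
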